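import Cfsg.Agent.Known.SolubilizerThree.Criteria
import Mathlib

/-! Solubilizer counts in `PSL (2, 3^p)`. -/

set_option autoImplicit false
set_option linter.unusedSectionVars false

open Matrix
open scoped MatrixGroups

namespace Cfsg.Lib.SolubThree

open Cfsg.Lib.GLTwo

variable {F : Type*} [Field F] [Fintype F]

local notation "G2" => SL(2, F)
local notation "q" => Fintype.card F

theorem card_center_SL (h2 : (2 : F) ≠ 0) : Nat.card ↥(Subgroup.center G2) = 2 := by
  classical
  have hset : (Subgroup.center G2 : Set G2) = {1, -1} := by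
    ext z
    exact (mem_center_iff_pm z).trans (by simp)
  have := Set.ncard_pair (show (1 : G2) ≠ -1 from (neg_ne h2 (1 : G2)).symm)
  rw [← hset] at this
  exact this

theorem two_mul_solCard (h2 : (2 : F) ≠ 0) (X : G2) :
    Nat.card {Y : G2 // Sol X Y} = 2 * solCard (prj X) := by
  have e := QuotientGroup.preimageMkEquivSubgroupProdSet (Subgroup.center G2)
    {y | Group.IsSolvable ↥(Subgroup.closure ({prj X, y} : Set (Matrix.ProjectiveSpecialLinearGroup (Fin 2) F)))}
  have h := Nat.card_congr e
  rw [Nat.card_prod, card_center_SL h2] at h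
  exact h

section Three

variable (hq4 : Fintype.card F % 4 = 3) (h3 : (3 : F) = 0)

include hq4 h3

theorem card_irred {X : G2} (hX : Reg X) (hi : Irred X.1.trace 1) (hT : X.1.trace ≠ 0) :
    Nat.card {Y : G2 // Sol X Y} = 2 * (q + 1) := by
  classical
  have h2 := two_ne hq4 h3
  obtain ⟨w, hw⟩ := hX.exists_inv h2
  set C := (Finset.univ.filter fun y : G2 => y * X * y⁻¹ = X) with hC
  have hCc : C.card = q + 1 := by
    rw [← card_one_irred hi, ← card_centSL hX.1, Nat.card_eq_fintype_card, hC, ← Fintype.card_subtype]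
    refine Fintype.card_congr (Equiv.subtypeEquivRight fun y => ?_)
    rw [Subgroup.mem_centralizer_singleton_iff, mul_inv_eq_iff_eq_mul]
  have hset : (Finset.univ.filter fun Y : G2 => Sol X Y) = C ∪ C.image (w * ·) := by
    ext g
    simp only [Finset.mem_filter, Finset.mem_univ, true_and, Finset.mem_union, Finset.mem_image,
      sol_irred_iff hq4 h3 hX hi hT, hC]
    refine or_congr Iff.rfl ⟨fun h => ⟨w⁻¹ * g, ?_, mul_inv_cancel_left w g⟩, ?_⟩
    · calc w⁻¹ * g * X * (w⁻¹ * g)⁻¹ = w⁻¹ * (g * X * g⁻¹) * w := by group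
        _ = w⁻¹ * (w * X * w⁻¹) * w := by rw [h, hw]
        _ = X := by group
    · rintro ⟨z, hz, rfl⟩
      calc w * z * X * (w * z)⁻¹ = w * (z * X * z⁻¹) * w⁻¹ := by group
        _ = X⁻¹ := by rw [hz, hw]
  rw [Nat.card_eq_fintype_card, Fintype.card_subtype, hset, Finset.card_union_of_disjoint,
    Finset.card_image_of_injective _ (mul_right_injective w), hCc, two_mul]
  rw [Finset.disjoint_left]
  rintro g hg hg'
  obtain ⟨z, hz, rfl⟩ := Finset.mem_image.1 hg'
  simp only [hC, Finset.mem_filter, Finset.mem_univ, true_and] at hg hz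
  refine hX.ne_inv h2 ?_
  calc X⁻¹ = w * (z * X * z⁻¹) * w⁻¹ := by rw [hz, hw]
    _ = w * z * X * (w * z)⁻¹ := by group
    _ = X := hg

omit hq4 h3 in
theorem card_lower_zero : Nat.card {g : G2 // g.1 1 0 = 0} = (q - 1) * q := by
  rw [← card_ne_zero' (F := F), ← Nat.card_eq_fintype_card (α := F), ← Nat.card_prod]
  refine Nat.card_congr
    { toFun := fun g => (⟨g.1.1 0 0, fun e => by
        have := det_eq g.1; rw [e, g.2] at this; simp at this⟩, g.1.1 0 1)
      invFun := fun p => ⟨⟨!![(p.1 : F), p.2; 0, (p.1 : F)⁻¹], by simp [Matrix.det_fin_two, p.1.2]⟩, by simp⟩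
      left_inv := fun g => by
        refine Subtype.ext (Subtype.ext ?_)
        have := det_eq g.1
        rw [g.2, mul_zero, sub_zero] at this
        have e := inv_eq_of_mul_eq_one_right this
        ext i j; fin_cases i <;> fin_cases j <;> simp [g.2, e]
      right_inv := fun p => by simp }

theorem card_diag {X : G2} (h01 : X.1 0 1 = 0) (h10 : X.1 1 0 = 0) (hne : X.1 0 0 ≠ X.1 1 1) (hT : X.1.trace ≠ 0) :
    Nat.card {Y : G2 // Sol X Y} = 2 * q * (q - 1) := by
  classical
  set A := Finset.univ.filter (fun g : G2 => g.1 1 0 = 0) with hA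
  set B := Finset.univ.filter (fun g : G2 => g.1 1 0 ≠ 0 ∧ g.1 0 1 = 0) with hB
  set C := Finset.univ.filter (fun g : G2 => g.1 1 0 ≠ 0 ∧ g.1 0 1 ≠ 0 ∧ g.1 0 0 = 0 ∧ g.1 1 1 = 0) with hC
  have hAc : A.card = (q - 1) * q := by
    rw [← card_lower_zero (F := F), Nat.card_eq_fintype_card, Fintype.card_subtype]
  have hBc : B.card = (q - 1) * (q - 1) := by
    conv_rhs => rw [← card_ne_zero' (F := F), ← Nat.card_prod]
    rw [← Fintype.card_subtype, ← Nat.card_eq_fintype_card]
    refine Nat.card_congr
      { toFun := fun g => (⟨g.1.1 0 0, fun e => by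
          have := det_eq g.1; rw [e, g.2.2] at this; simp at this⟩, ⟨g.1.1 1 0, g.2.1⟩)
        invFun := fun p => ⟨⟨!![(p.1 : F), 0; (p.2 : F), (p.1 : F)⁻¹], by simp [Matrix.det_fin_two, p.1.2]⟩,
          by simpa using p.2.2, by simp⟩
        left_inv := fun g => by
          refine Subtype.ext (Subtype.ext ?_)
          have := det_eq g.1
          rw [g.2.2, zero_mul, sub_zero] at this
          have e := inv_eq_of_mul_eq_one_right this
          ext i j; fin_cases i <;> fin_cases j <;> simp [g.2.2, e]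
        right_inv := fun p => by simp }
  have hCc : C.card = q - 1 := by
    conv_rhs => rw [← card_ne_zero' (F := F)]
    rw [← Fintype.card_subtype, ← Nat.card_eq_fintype_card]
    refine Nat.card_congr
      { toFun := fun g => ⟨g.1.1 1 0, g.2.1⟩
        invFun := fun c => ⟨⟨!![0, -(c : F)⁻¹; (c : F), 0], by simp [Matrix.det_fin_two, c.2]⟩,
          by simpa using c.2, by simpa using c.2, by simp, by simp⟩
        left_inv := fun g => by
          refine Subtype.ext (Subtype.ext ?_)
          have := det_eq g.1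
          rw [g.2.2.2.1, zero_mul, zero_sub, ← neg_mul] at this
          have e := inv_eq_of_mul_eq_one_left this
          ext i j; fin_cases i <;> fin_cases j <;> simp [g.2.2.2.1, g.2.2.2.2, e]
        right_inv := fun p => by simp }
  have hset : (Finset.univ.filter fun Y : G2 => Sol X Y) = A ∪ (B ∪ C) := by
    ext g
    simp only [Finset.mem_filter, Finset.mem_univ, true_and, Finset.mem_union, sol_diag_iff hq4 h3 h01 h10 hne hT,
      hA, hB, hC]
    by_cases hg : g.1 1 0 = 0
    · simp [hg]
    by_cases hg' : g.1 0 1 = 0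
    · simp [hg, hg']
    simp [hg, hg']
  rw [Nat.card_eq_fintype_card, Fintype.card_subtype, hset, Finset.card_union_of_disjoint,
    Finset.card_union_of_disjoint, hAc, hBc, hCc]
  · obtain ⟨k, hk⟩ : ∃ k, q = k + 1 := ⟨q - 1, by have := Fintype.card_pos (α := F); omega⟩
    rw [hk, Nat.add_sub_cancel]; ring
  · rw [Finset.disjoint_left]
    intro g hg hg'
    simp only [hB, hC, Finset.mem_filter, Finset.mem_univ, true_and] at hg hg'
    exact hg'.2.1 hg.2
  · rw [Finset.disjoint_left]
    intro g hg hg'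
    simp only [hA, hB, hC, Finset.mem_filter, Finset.mem_univ, true_and, Finset.mem_union] at hg hg'
    rcases hg' with h | h <;> exact h.1 hg

theorem card_order_three {X : G2} {e v : F} (he : e * e = 1) (hv : v ≠ 0) (h00 : X.1 0 0 = e) (h01 : X.1 0 1 = v)
    (h10 : X.1 1 0 = 0) (h11 : X.1 1 1 = e) : Nat.card {Y : G2 // Sol X Y} = q * (q + 5) := by
  classical
  have h2 := two_ne hq4 h3
  set A := Finset.univ.filter (fun g : G2 => g.1 1 0 = 0) with hA
  set B := Finset.univ.filter (fun g : G2 => (v * g.1 1 0) ^ 2 = 1 ∧ (g.1.trace = 0 ∨ g.1.trace ^ 2 = 1)) with hB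
  have hAc : A.card = (q - 1) * q := by
    rw [← card_lower_zero (F := F), Nat.card_eq_fintype_card, Fintype.card_subtype]
  have hne : ∀ g : G2, (v * g.1 1 0) ^ 2 = 1 → g.1 1 0 ≠ 0 := fun g h hc => by
    rw [hc, mul_zero, zero_pow two_ne_zero] at h; exact zero_ne_one h
  have hBc : B.card = 6 * q := by
    have hc2 : Nat.card {c : F // (v * c) ^ 2 = 1} = 2 := by
      refine Eq.trans ?_ (card_sq_one h2)
      exact Nat.card_congr ((Equiv.mulLeft₀ v hv).subtypeEquiv fun c => by rw [sq]; rfl)
    have ht3 : Nat.card {t : F // t = 0 ∨ t ^ 2 = 1} = 3 := by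
      rw [Nat.card_eq_fintype_card, Fintype.card_subtype, Finset.card_eq_three]
      refine ⟨0, 1, -1, zero_ne_one, by simp, fun e => h2 (by linear_combination e), ?_⟩
      ext t
      simp
    calc B.card = Nat.card ({c : F // (v * c) ^ 2 = 1} × {t : F // t = 0 ∨ t ^ 2 = 1} × F) := by
          rw [← Fintype.card_subtype, ← Nat.card_eq_fintype_card]
          refine Nat.card_congr
            { toFun := fun g => (⟨g.1.1 1 0, g.2.1⟩, ⟨g.1.1.trace, g.2.2⟩, g.1.1 0 0)
              invFun := fun p => ⟨⟨!![p.2.2, (p.2.2 * ((p.2.1 : F) - p.2.2) - 1) / (p.1 : F); (p.1 : F), (p.2.1 : F) - p.2.2], by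
                  have hp : (p.1 : F) ≠ 0 := fun hc => by
                    have := p.1.2; rw [hc, mul_zero, zero_pow two_ne_zero] at this; exact zero_ne_one this
                  rw [Matrix.det_fin_two]
                  simp [div_mul_cancel₀ _ hp]⟩, by simpa using p.1.2, by simpa [Matrix.trace_fin_two] using p.2.1.2⟩
              left_inv := fun g => by
                refine Subtype.ext (Subtype.ext ?_)
                have hd := det_eq g.1
                have hc := hne g.1 g.2.1
                have e' : (g.1.1 0 0 * g.1.1 1 1 - 1) / g.1.1 1 0 = g.1.1 0 1 := by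
                  rw [div_eq_iff hc]; linear_combination hd
                ext i j; fin_cases i <;> fin_cases j <;> simp [Matrix.trace_fin_two, e']
              right_inv := fun p => by
                refine Prod.ext (Subtype.ext ?_) (Prod.ext (Subtype.ext ?_) ?_) <;> simp [Matrix.trace_fin_two] }
      _ = 6 * q := by
          rw [Nat.card_prod, Nat.card_prod, hc2, ht3, Nat.card_eq_fintype_card]; ring
  have hset : (Finset.univ.filter fun Y : G2 => Sol X Y) = A ∪ B := by
    ext g
    simp only [Finset.mem_filter, Finset.mem_univ, true_and, Finset.mem_union,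
      sol_three_iff hq4 h3 he hv h00 h01 h10 h11, hA, hB]
  rw [Nat.card_eq_fintype_card, Fintype.card_subtype, hset, Finset.card_union_of_disjoint, hAc, hBc]
  · obtain ⟨k, hk⟩ : ∃ k, q = k + 1 := ⟨q - 1, by have := Fintype.card_pos (α := F); omega⟩
    rw [hk, Nat.add_sub_cancel]; ring
  · rw [Finset.disjoint_left]
    intro g hg hg'
    simp only [hA, hB, Finset.mem_filter, Finset.mem_univ, true_and] at hg hg'
    exact hne g hg'.1 hg

/-- The circle `u² + w² = c`. -/
theorem card_circle [DecidableEq F] (c : F) :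
    Nat.card {p : F × F // p.1 * p.1 + p.2 * p.2 = c} = if c = 0 then 1 else q + 1 := by
  have hirr := irred_zero hq4 h3
  have hzero : ∀ a b : F, a * a + b * b = 0 → a = 0 ∧ b = 0 := fun a b h => by
    have hp : form (0 : F) 1 (a, b) = 0 := by simp only [form]; linear_combination h
    simpa using form_eq_zero hirr hp
  split_ifs with hc
  · subst hc
    haveI : Nonempty {p : F × F // p.1 * p.1 + p.2 * p.2 = 0} := ⟨⟨(0, 0), by simp⟩⟩
    haveI : Subsingleton {p : F × F // p.1 * p.1 + p.2 * p.2 = 0} := ⟨fun x y => Subtype.ext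
      (Prod.ext ((hzero _ _ x.2).1.trans (hzero _ _ y.2).1.symm) ((hzero _ _ x.2).2.trans (hzero _ _ y.2).2.symm))⟩
    exact Nat.card_unique
  · obtain ⟨a, b, hab⟩ := FiniteField.exists_root_sum_quadratic (f := (Polynomial.X : Polynomial F) ^ 2)
      (g := (Polynomial.X : Polynomial F) ^ 2 - Polynomial.C c) (Polynomial.degree_X_pow 2)
      (Polynomial.degree_X_pow_sub_C two_pos c) (Nat.odd_iff.1 (Nat.odd_iff.2 (by omega)))
    simp only [Polynomial.eval_pow, Polynomial.eval_X, Polynomial.eval_sub, Polynomial.eval_C] at hab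
    have hab' : a * a + b * b = c := by linear_combination hab
    rw [← card_one_irred hirr]
    refine (Nat.card_congr (α := One F (0 : F) 1) (β := {p : F × F // p.1 * p.1 + p.2 * p.2 = c})
      { toFun := fun p => ⟨(p.1.1 * a - p.1.2 * b, p.1.1 * b + p.1.2 * a), by
          have hp : p.1.1 * p.1.1 + p.1.2 * p.1.2 = 1 := by
            have h := p.2; simp only [form] at h; linear_combination h
          linear_combination (a * a + b * b) * hp + hab'⟩
        invFun := fun p => ⟨((p.1.1 * a + p.1.2 * b) / c, (p.1.2 * a - p.1.1 * b) / c), by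
          have hp := p.2
          simp only [form]
          field_simp
          linear_combination (a * a + b * b) * hp + c * hab'⟩
        left_inv := fun p => by
          refine Subtype.ext (Prod.ext ?_ ?_)
          · show _ / c = p.1.1
            rw [div_eq_iff hc]
            linear_combination p.1.1 * hab'
          · show _ / c = p.1.2
            rw [div_eq_iff hc]
            linear_combination p.1.2 * hab'
        right_inv := fun p => by
          refine Subtype.ext (Prod.ext ?_ ?_)
          · show _ / c * a - _ / c * b = p.1.1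
            rw [div_mul_eq_mul_div, div_mul_eq_mul_div, ← sub_div, div_eq_iff hc]
            linear_combination p.1.1 * hab'
          · show _ / c * b + _ / c * a = p.1.2
            rw [div_mul_eq_mul_div, div_mul_eq_mul_div, ← add_div, div_eq_iff hc]
            linear_combination p.1.2 * hab' }).symm

omit hq4 h3 in
theorem card_fibre [DecidableEq F] (T : Finset (F × F))
    (h4 : ∀ c : F, Nat.card {p : F × F // p.1 * p.1 + p.2 * p.2 = c} = if c = 0 then 1 else q + 1) (h3 : (3 : F) = 0) :
    Nat.card {Y : G2 // (Y.1.trace, (Y.1 0 1 - Y.1 1 0)) ∈ T} =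
      ∑ ts ∈ T, if ts.1 * ts.1 + ts.2 * ts.2 - 1 = 0 then 1 else q + 1 := by
  classical
  simp only [← h4]
  rw [← Finset.sum_coe_sort, ← Nat.card_sigma]
  refine Nat.card_congr
    { toFun := fun Y => ⟨⟨(Y.1.1.trace, (Y.1.1 0 1 - Y.1.1 1 0)), Y.2⟩,
        ⟨(Y.1.1 0 0 - Y.1.1 1 1, Y.1.1 0 1 + Y.1.1 1 0), by
          simp only [Matrix.trace_fin_two]
          have := det_eq Y.1
          linear_combination -this * 4 + (-1 : F) * h3⟩⟩
      invFun := fun z => ⟨⟨!![-(z.1.1.1 + z.2.1.1), -(z.1.1.2 + z.2.1.2); z.1.1.2 - z.2.1.2, z.2.1.1 - z.1.1.1], by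
          rw [Matrix.det_fin_two]
          have h := z.2.2
          simp
          linear_combination -h⟩, by
          convert z.1.2 using 1
          refine Prod.ext ?_ ?_
          · simp [Matrix.trace_fin_two]; linear_combination (-z.1.1.1) * h3
          · simp; linear_combination (-z.1.1.2) * h3⟩
      left_inv := fun Y => by
        refine Subtype.ext (Subtype.ext ?_)
        ext i j; fin_cases i <;> fin_cases j <;> simp [Matrix.trace_fin_two]
        · linear_combination (-Y.1.1 0 0) * h3
        · linear_combination (-Y.1.1 0 1) * h3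
        · linear_combination (-Y.1.1 1 0) * h3
        · linear_combination (-Y.1.1 1 1) * h3
      right_inv := fun z => by
        obtain ⟨⟨⟨t, s⟩, hts⟩, ⟨⟨u, w⟩, huw⟩⟩ := z
        refine Sigma.subtype_ext (Subtype.ext (Prod.ext ?_ ?_)) (Prod.ext ?_ ?_)
        · simp [Matrix.trace_fin_two]; linear_combination (-t) * h3
        · simp; linear_combination (-s) * h3
        · simp; linear_combination (-u) * h3
        · simp; linear_combination (-w) * h3 }

theorem card_J : Nat.card {Y : G2 // Sol J Y} = 2 * (q * (q + 1)) := by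
  classical
  have h2 := two_ne hq4 h3
  have hne : (1 : F) ≠ -1 := fun e => h2 (by linear_combination e)
  have hcirc := card_circle hq4 h3
  set T0 : Finset (F × F) := Finset.univ.filter fun ts => ts.1 = 0 with hT0
  set T1 : Finset (F × F) := Finset.univ.filter fun ts => ts.1 ≠ 0 ∧ ts.2 = 0 with hT1
  set T2 : Finset (F × F) := Finset.univ.filter fun ts => ts.1 ^ 2 = 1 ∧ ts.2 ^ 2 = 1 with hT2
  set R := fun T : Finset (F × F) => Finset.univ.filter fun Y : G2 => (Y.1.trace, (Y.1 0 1 - Y.1 1 0)) ∈ T with hR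
  set R3 := Finset.univ.filter (fun Y : G2 => Y.1.trace ≠ 0 ∧ (Y.1 0 1 - Y.1 1 0) ≠ 0 ∧
    (Y.1 0 0 - Y.1 1 1 = 0 ∧ Y.1 0 1 + Y.1 1 0 = 0)) with hR3
  have hRc : ∀ T, (R T).card = ∑ ts ∈ T, if ts.1 * ts.1 + ts.2 * ts.2 - 1 = 0 then 1 else q + 1 := fun T => by
    rw [← card_fibre T hcirc h3, Nat.card_eq_fintype_card, Fintype.card_subtype]
  have hpm : ∀ S : Finset F, 1 ∈ S → (-1 : F) ∈ S →
      (∑ s ∈ S, if s * s - 1 = 0 then 1 else q + 1) = 2 + (S.card - 2) * (q + 1) := by
    intro S h1 h1'
    rw [Finset.sum_ite, Finset.sum_const, Finset.sum_const, smul_eq_mul, smul_eq_mul, mul_one]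
    have e : S.filter (fun s => s * s - 1 = 0) = {1, -1} := by
      ext s
      simp only [Finset.mem_filter, sub_eq_zero, mul_self_eq_one_iff, Finset.mem_insert, Finset.mem_singleton]
      exact ⟨fun h => h.2, fun h => ⟨by rcases h with rfl | rfl <;> assumption, h⟩⟩
    have hc : ({1, -1} : Finset F).card = 2 := Finset.card_pair hne
    have hsum := S.card_filter_add_card_filter_not (fun s => s * s - 1 = 0)
    rw [e, hc] at hsum ⊢
    rw [show (S.filter fun s => ¬ (s * s - 1 = 0)).card = S.card - 2 by omega]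
  have c0 : (R T0).card = 2 + (q - 2) * (q + 1) := by
    rw [hRc, show T0 = Finset.univ.image (fun s : F => ((0 : F), s)) by
      ext ⟨t, s⟩; simp [hT0, eq_comm], Finset.sum_image (fun a _ b _ h => (Prod.ext_iff.1 h).2)]
    simp only [mul_zero, zero_add]
    rw [hpm _ (Finset.mem_univ _) (Finset.mem_univ _), Finset.card_univ]
  have c1 : (R T1).card = 2 + (q - 3) * (q + 1) := by
    rw [hRc, show T1 = (Finset.univ.erase (0 : F)).image (fun t : F => (t, (0 : F))) by
      ext ⟨t, s⟩; simp [hT1, eq_comm], Finset.sum_image (fun a _ b _ h => (Prod.ext_iff.1 h).1)]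
    simp only [mul_zero, add_zero]
    rw [hpm _ (by simp) (by simp), Finset.card_erase_of_mem (Finset.mem_univ _), Finset.card_univ]
    rw [Nat.sub_sub]
  have c2 : (R T2).card = 4 * (q + 1) := by
    rw [hRc, Finset.sum_congr rfl (g := fun _ => q + 1), Finset.sum_const, smul_eq_mul]
    · congr 1
      rw [show T2 = ({1, -1} : Finset F) ×ˢ ({1, -1} : Finset F) by
        ext ⟨t, s⟩; simp [hT2], Finset.card_product, Finset.card_pair hne]
    · intro ts hts
      simp only [hT2, Finset.mem_filter, Finset.mem_univ, true_and] at hts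
      rw [if_neg]
      intro e
      exact one_ne_zero (α := F) (by linear_combination e - hts.1 - hts.2)
  have c3 : R3.card + 4 = q + 1 := by
    have hP : (Finset.univ.filter fun p : F × F => p.1 * p.1 + p.2 * p.2 = 1).card = q + 1 := by
      rw [← Fintype.card_subtype, ← Nat.card_eq_fintype_card, hcirc, if_neg one_ne_zero]
    have hfour : (({(0, 1), (0, -1), (1, 0), (-1, 0)} : Finset (F × F))).card = 4 := by
      rw [Finset.card_eq_of_equiv_fin]
      refine Fintype.equivFinOfCardEq ?_
      rw [Fintype.card_coe, Finset.card_insert_of_notMem, Finset.card_insert_of_notMem, Finset.card_pair] <;>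
        simp [hne, hne.symm]
    have hsub : ({(0, 1), (0, -1), (1, 0), (-1, 0)} : Finset (F × F)) ⊆
        Finset.univ.filter fun p : F × F => p.1 * p.1 + p.2 * p.2 = 1 := by
      intro p hp
      simp only [Finset.mem_insert, Finset.mem_singleton] at hp
      rcases hp with rfl | rfl | rfl | rfl <;> simp
    rw [← hP, ← hfour, ← Finset.card_sdiff_add_card_eq_card hsub]
    congr 1
    refine Finset.card_bij (fun Y _ => (Y.1.trace, (Y.1 0 1 - Y.1 1 0))) (fun Y hY => ?_) (fun Y hY Y' hY' e => ?_)
      (fun p hp => ?_)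
    · simp only [hR3, Finset.mem_filter, Finset.mem_univ, true_and] at hY
      obtain ⟨ht, hs, hu, hw⟩ := hY
      simp only [Finset.mem_sdiff, Finset.mem_filter, Finset.mem_univ, true_and, Finset.mem_insert,
        Finset.mem_singleton, Prod.mk.injEq]
      refine ⟨?_, ?_⟩
      · rw [Matrix.trace_fin_two]
        linear_combination 4 * det_eq Y + (Y.1 0 0 - Y.1 1 1) * hu + (Y.1 0 1 + Y.1 1 0) * hw + h3
      · rintro (⟨a, -⟩ | ⟨a, -⟩ | ⟨-, a⟩ | ⟨-, a⟩)
        exacts [ht a, ht a, hs a, hs a]
    · simp only [hR3, Finset.mem_filter, Finset.mem_univ, true_and] at hY hY'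
      obtain ⟨-, -, hu, hw⟩ := hY
      obtain ⟨-, -, hu', hw'⟩ := hY'
      simp only [Matrix.trace_fin_two, Prod.mk.injEq] at e
      obtain ⟨e1, e2⟩ := e
      refine Subtype.ext ?_
      ext i j; fin_cases i <;> fin_cases j <;> simp
      · linear_combination (-1 : F) * e1 + (-1 : F) * (hu - hu') + (Y.1 0 0 - Y'.1 0 0) * h3
      · linear_combination (-1 : F) * e2 + (-1 : F) * (hw - hw') + (Y.1 0 1 - Y'.1 0 1) * h3
      · linear_combination e2 + (-1 : F) * (hw - hw') + (Y.1 1 0 - Y'.1 1 0) * h3
      · linear_combination (-1 : F) * e1 + (hu - hu') + (Y.1 1 1 - Y'.1 1 1) * h3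
    · obtain ⟨t, s⟩ := p
      simp only [Finset.mem_sdiff, Finset.mem_filter, Finset.mem_univ, true_and, Finset.mem_insert,
        Finset.mem_singleton, Prod.mk.injEq, not_or, not_and] at hp
      obtain ⟨hp1, a, b, c, d⟩ := hp
      have ht : t ≠ 0 := fun e => by
        subst e
        rcases mul_self_eq_one_iff.1 (show s * s = 1 by linear_combination hp1) with h | h
        exacts [a rfl h, b rfl h]
      have hs : s ≠ 0 := fun e => by
        subst e
        rcases mul_self_eq_one_iff.1 (show t * t = 1 by linear_combination hp1) with h | h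
        exacts [c h rfl, d h rfl]
      refine ⟨⟨!![-t, -s; s, -t], by rw [Matrix.det_fin_two]; simp; linear_combination hp1⟩, ?_, ?_⟩
      · refine Finset.mem_filter.2 ⟨Finset.mem_univ _, ?_⟩
        simp [Matrix.trace_fin_two]
        exact ⟨fun e => ht (by linear_combination e + t * h3), fun e => hs (by linear_combination e + s * h3)⟩
      · simp only [Matrix.trace_fin_two]
        simp
        exact ⟨by linear_combination (-t) * h3, by linear_combination (-s) * h3⟩
  have hset : (Finset.univ.filter fun Y : G2 => Sol J Y) = R T0 ∪ (R T1 ∪ (R T2 ∪ R3)) := by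
    ext g
    simp only [hR, hR3, hT0, hT1, hT2, Finset.mem_filter, Finset.mem_univ, true_and, Finset.mem_union,
      sol_J_iff hq4 h3, trace_J_mul]
    tauto
  rw [Nat.card_eq_fintype_card, Fintype.card_subtype, hset, Finset.card_union_of_disjoint,
    Finset.card_union_of_disjoint, Finset.card_union_of_disjoint, c0, c1, c2]
  · obtain ⟨k, hk⟩ : ∃ k, q = k + 3 := ⟨q - 3, by omega⟩
    rw [hk] at c3 ⊢
    rw [show k + 3 - 2 = k + 1 by omega, Nat.add_sub_cancel, show R3.card = k by omega]
    ring
  · rw [Finset.disjoint_left]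
    intro g hg hg'
    simp only [hR, hR3, hT2, Finset.mem_filter, Finset.mem_univ, true_and] at hg hg'
    obtain ⟨ht, hs⟩ := hg
    obtain ⟨-, -, hu, hw⟩ := hg'
    rw [Matrix.trace_fin_two] at *
    exact one_ne_zero (α := F) (by
      linear_combination -ht - hs + 4 * det_eq g + (g.1 0 0 - g.1 1 1) * hu + (g.1 0 1 + g.1 1 0) * hw + h3)
  · rw [Finset.disjoint_left]
    intro g hg hg'
    simp only [hR, hR3, hT1, hT2, Finset.mem_filter, Finset.mem_univ, true_and, Finset.mem_union] at hg hg'
    rcases hg' with h | h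
    · exact zero_ne_one (α := F) (by rw [← h.2, hg.2]; ring)
    · exact h.2.1 hg.2
  · rw [Finset.disjoint_left]
    intro g hg hg'
    simp only [hR, hR3, hT0, hT1, hT2, Finset.mem_filter, Finset.mem_univ, true_and, Finset.mem_union] at hg hg'
    rcases hg' with h | h | h
    · exact h.1 hg
    · exact zero_ne_one (α := F) (by rw [← h.1, hg]; ring)
    · exact h.1 hg

end Three

/-- The four counts in `PSL₂`. -/
theorem sol_counts (hq4 : Fintype.card F % 4 = 3) [CharP F 3] (x : Matrix.ProjectiveSpecialLinearGroup (Fin 2) F) :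
    (orderOf x = 2 → solCard x = q * (q + 1)) ∧
    (orderOf x = 3 → 2 * solCard x = q * (q + 5)) ∧
    (x ≠ 1 → orderOf x ≠ 2 → orderOf x ∣ q - 1 → solCard x = q * (q - 1)) ∧
    (x ≠ 1 → orderOf x ≠ 2 → orderOf x ∣ q + 1 → solCard x = q + 1) := by
  classical
  haveI : Fact (Nat.Prime 3) := ⟨Nat.prime_three⟩
  have h3 : (3 : F) = 0 := by exact_mod_cast CharP.cast_eq_zero F 3
  have h2 := two_ne hq4 h3
  obtain ⟨X, rfl⟩ := QuotientGroup.mk'_surjective (Subgroup.center G2) x
  change (orderOf (prj X) = 2 → _) ∧ (orderOf (prj X) = 3 → _) ∧ (prj X ≠ 1 → _) ∧ (prj X ≠ 1 → _)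
  have hns : prj X ≠ 1 → NonScalar X.1 := fun h => by_contra fun hc => h ((prj_eq_one_iff X).2 (scalar_pm hc))
  have hfin : ∀ N, Nat.card {Y : G2 // Sol X Y} = 2 * N → solCard (prj X) = N := fun N h => by
    have := two_mul_solCard h2 X; omega
  have hconj : ∀ X', IsConj X X' → solCard (prj X) = solCard (prj X') := fun X' h =>
    (solCard_isConj (MonoidHom.map_isConj prj h)).symm
  obtain ⟨k, -, hk⟩ := FiniteField.card F 3
  have h3q : 3 ∣ q := hk ▸ dvd_pow_self 3 k.ne_zero
  have hcard : orderOf (prj X) ∣ Nat.card ↥(Subgroup.centralizer ({X} : Set G2)) :=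
    (orderOf_map_dvd prj X).trans (orderOf_dvd_of_pow_eq_one (pow_card_cent X))
  have hcop : prj X ≠ 1 → orderOf (prj X) ≠ 2 → orderOf (prj X) ∣ q - 1 → orderOf (prj X) ∣ q + 1 → False := by
    intro h1 h2' hm hp
    have h4 : orderOf (prj X) ∣ 2 := by
      have := Nat.dvd_sub hp hm
      rwa [show q + 1 - (q - 1) = 2 by have := Fintype.card_pos (α := F); omega] at this
    rcases (Nat.dvd_prime Nat.prime_two).1 h4 with h | h
    · exact h1 (orderOf_eq_one_iff.1 h)
    · exact h2' h
  have hthree : ∀ {r : F}, r * r = 1 → X.1.trace = r + r → prj X ^ 3 = 1 := by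
    intro r hr ht
    rw [pow_succ, pow_two]
    exact prj_cube (by rw [ht]; linear_combination 4 * hr + h3)
  have htr0 : prj X ≠ 1 → orderOf (prj X) ≠ 2 → X.1.trace ≠ 0 := fun h1 h2' ht =>
    h2' (orderOf_eq_prime (by rw [pow_two]; exact prj_sq ht) h1)
  refine ⟨fun ho => ?_, fun ho => ?_, fun h1 h2' hd => ?_, fun h1 h2' hd => ?_⟩
  · have h1 : prj X ≠ 1 := fun e => by rw [e, orderOf_one] at ho; omega
    have hsq : X * X = 1 ∨ X * X = -1 := (prj_eq_one_iff _).1 (by
      have := pow_orderOf_eq_one (prj X); rwa [ho, pow_two, ← map_mul] at this)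
    have ht : X.1.trace = 0 := by
      rcases hsq with e | e
      · exact absurd ((prj_eq_one_iff X).2 (eq_pm_one_of_sq h2 e)) h1
      · exact trace_zero_of_sq e
    have hc : IsConj X J := isConj_SL (hns h1) (reg_J hq4 h3).1 (ht.trans trace_J.symm)
      (full_SL X (hns h1) (.inl fun r hr e => by
        rw [ht] at e
        exact h2 (by linear_combination (-r) * e - 2 * hr)))
    rw [hconj J hc]
    have := two_mul_solCard h2 (J : G2)
    have := card_J (F := F) hq4 h3
    omega
  · have h1 : prj X ≠ 1 := fun e => by rw [e, orderOf_one] at ho; omega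
    have hcube : X ^ 3 = 1 ∨ X ^ 3 = -1 := (prj_eq_one_iff _).1 (by
      have := pow_orderOf_eq_one (prj X); rwa [ho, ← map_pow] at this)
    obtain ⟨e, he, ht⟩ : ∃ e : F, e * e = 1 ∧ X.1.trace = e + e := by
      rcases hcube with h | h
      · exact ⟨1, mul_one 1, trace_of_pow_char 3 (one_pow 3) (by rw [h, one_smul]; rfl)⟩
      · exact ⟨-1, by ring, trace_of_pow_char 3 (by ring) (by rw [h, neg_one_smul]; rfl)⟩
    obtain ⟨v, hv, hc⟩ := exists_upper (hns h1) ⟨e, he⟩ ht
    rw [hconj _ hc]
    have := two_mul_solCard h2 (upper ⟨e, he⟩ v)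
    have := card_order_three hq4 h3 (X := upper ⟨e, he⟩ v) he hv (by simp) (by simp) (by simp) (by simp)
    omega
  · rcases kinds (hns h1) with ⟨-, hc⟩ | ⟨⟨r, s, hrs, htr, hrs1⟩, -⟩ | ⟨⟨r, hr, htr⟩, -⟩
    · exact (hcop h1 h2' hd (hc ▸ hcard)).elim
    · have hr : r ≠ 0 := left_ne_zero_of_mul_eq_one hrs1.symm
      have hs : s = r⁻¹ := (inv_eq_of_mul_eq_one_right hrs1.symm).symm
      subst hs
      let d : G2 := ⟨!![r, 0; 0, r⁻¹], by simp [Matrix.det_fin_two, hr]⟩
      have hdt : d.1.trace = X.1.trace := by rw [htr, Matrix.trace_fin_two]; simp [d]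
      have hc : IsConj X d := isConj_SL (hns h1) (fun h => hrs (by simpa [d] using h.2.2)) hdt.symm
        (full_SL X (hns h1) (.inl fun e he h => hrs (by
          have : (r - r⁻¹) ^ 2 = 0 := by
            rw [htr] at h
            linear_combination (r + r⁻¹ + e + e) * h + 4 * he - 4 * mul_inv_cancel₀ hr
          exact sub_eq_zero.1 (pow_eq_zero_iff two_ne_zero |>.1 this))))
      rw [hconj d hc]
      have := two_mul_solCard h2 d
      have := card_diag hq4 h3 (X := d) (by simp [d]) (by simp [d]) (by simpa [d] using hrs)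
        (hdt ▸ htr0 h1 h2')
      rw [mul_assoc] at this
      omega
    · exfalso
      rcases (Nat.dvd_prime Nat.prime_three).1 (orderOf_dvd_of_pow_eq_one (hthree hr htr)) with h | h
      · exact h1 (orderOf_eq_one_iff.1 h)
      · rw [h] at hd
        have : 3 ∣ q - (q - 1) := Nat.dvd_sub h3q hd
        rw [show q - (q - 1) = 1 by have := Fintype.card_pos (α := F); omega] at this
        omega
  · rcases kinds (hns h1) with ⟨hi, -⟩ | ⟨-, hc⟩ | ⟨⟨r, hr, htr⟩, -⟩
    · refine hfin _ (card_irred hq4 h3 ⟨hns h1, fun e => hi (X.1.trace / 2) ?_⟩ hi (htr0 h1 h2'))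
      field_simp
      linear_combination -e
    · exact (hcop h1 h2' (hc ▸ hcard) hd).elim
    · exfalso
      rcases (Nat.dvd_prime Nat.prime_three).1 (orderOf_dvd_of_pow_eq_one (hthree hr htr)) with h | h
      · exact h1 (orderOf_eq_one_iff.1 h)
      · rw [h] at hd
        have : 3 ∣ q + 1 - q := Nat.dvd_sub hd h3q
        rw [Nat.add_sub_cancel_left] at this
        omega

end Cfsg.Lib.SolubThree
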