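import Cfsg.Agent.Known.SolubilizerThree.Frames
import Mathlib

/-! Which `Y` generate, with a given element of `SL (2, 3^p)`, a solvable subgroup of `PSL (2, 3^p)`. -/

set_option autoImplicit false
set_option linter.unusedSectionVars false

open Matrix
open scoped MatrixGroups

namespace Cfsg.Lib.SolubThree

open Cfsg.Lib.GLTwo

variable {F : Type*} [Field F] [Fintype F]

local notation "G2" => SL(2, F)

/-- Solvability of the image of a pair in `PSL₂`. -/
def Sol (X Y : G2) : Prop :=
  Group.IsSolvable ↥(Subgroup.closure ({prj X, prj Y} : Set (Matrix.ProjectiveSpecialLinearGroup (Fin 2) F)))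

theorem sol_of_SL {X Y : G2} (h : Group.IsSolvable ↥(Subgroup.closure ({X, Y} : Set G2))) : Sol X Y := by
  have := solvable_map (prj (F := F)) h
  rwa [Set.image_pair] at this

theorem closure_change {G : Type*} [Group G] {x y a b : G} (ha : a ∈ Subgroup.closure ({x, y} : Set G))
    (hb : b ∈ Subgroup.closure ({x, y} : Set G)) (hx : x ∈ Subgroup.closure ({a, b} : Set G))
    (hy : y ∈ Subgroup.closure ({a, b} : Set G)) :
    Subgroup.closure ({x, y} : Set G) = Subgroup.closure ({a, b} : Set G) :=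
  le_antisymm ((Subgroup.closure_le _).2 (by rintro z (rfl | rfl); exacts [hx, hy]))
    ((Subgroup.closure_le _).2 (by rintro z (rfl | rfl); exacts [ha, hb]))

theorem prj_sq {g : G2} (h : g.1.trace = 0) : prj g * prj g = 1 := by
  rw [← map_mul, sq_neg_one h]
  exact (prj_eq_one_iff _).2 (Or.inr rfl)

theorem prj_cube {g : G2} (h : g.1.trace ^ 2 = 1) : prj g * prj g * prj g = 1 := by
  rw [← map_mul, ← map_mul]
  refine (prj_eq_one_iff _).2 ?_
  have e : (g * g * g).1 = (-g.1.trace) • (1 : Matrix (Fin 2) (Fin 2) F) := by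
    rw [coe_mul', coe_mul', sq_eq, Matrix.sub_mul, Matrix.smul_mul, Matrix.one_mul, sq_eq, smul_sub, smul_smul, ← sq, h,
      one_smul, neg_smul]
    abel
  rcases sq_eq_one_iff.1 h with h' | h' <;> rw [h'] at e
  · exact Or.inr (Subtype.ext (by rw [e, coe_neg', coe_one', neg_one_smul]))
  · exact Or.inl (Subtype.ext (by rw [e, coe_one', neg_neg, one_smul]))

theorem sol_two_three {X Y : G2} (hX : X.1.trace = 0) (hY : Y.1.trace ^ 2 = 1) (hXY : (X * Y).1.trace ^ 2 = 1) :
    Group.IsSolvable ↥(Subgroup.closure ({prj X, prj Y} : Set (Matrix.ProjectiveSpecialLinearGroup (Fin 2) F))) :=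
  solvable_two_three (prj_sq hX) (prj_cube hY) (by
    have := prj_cube hXY
    rwa [map_mul] at this)

theorem sol_norm {X Y : G2} (h2 : (2 : F) ≠ 0) (hX : Reg X) (h : Y * X * Y⁻¹ = X ∨ Y * X * Y⁻¹ = X⁻¹) : Sol X Y := by
  refine sol_of_SL (solvable_normalized (Subgroup.centralizer ({X} : Set G2)) (cent_comm hX.1) Y
    ((hX.mem_normalizer_iff h2).2 h) _ ?_)
  rintro z (rfl | rfl)
  · exact Or.inl (self_mem_cen _)
  · exact Or.inr (by rw [mul_inv_cancel]; exact one_mem _)

theorem sol_upper {X Y : G2} (hX : X.1 1 0 = 0) (hY : Y.1 1 0 = 0) : Sol X Y := by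
  let B : Subgroup G2 :=
    { carrier := {g | g.1 1 0 = 0}
      one_mem' := by simp
      mul_mem' := fun {a b} (ha : a.1 1 0 = 0) (hb : b.1 1 0 = 0) => by
        show (a * b).1 1 0 = 0
        simp [Matrix.mul_apply, Fin.sum_univ_two, ha, hb]
      inv_mem' := fun {a} (ha : a.1 1 0 = 0) => by
        show (a⁻¹).1 1 0 = 0
        rw [(inv_entries a).2.2.1, ha, neg_zero] }
  have hle : Subgroup.closure ({X, Y} : Set G2) ≤ B := (Subgroup.closure_le B).2 (by
    rintro z (rfl | rfl)
    · exact hX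
    · exact hY)
  let U : Subgroup G2 :=
    { carrier := {g | g.1 1 0 = 0 ∧ g.1 0 0 = 1}
      one_mem' := by simp
      mul_mem' := fun {a b} (ha : a.1 1 0 = 0 ∧ a.1 0 0 = 1) (hb : b.1 1 0 = 0 ∧ b.1 0 0 = 1) => by
        refine ⟨?_, ?_⟩
        · simp [Matrix.mul_apply, Fin.sum_univ_two, ha.1, hb.1]
        · simp [Matrix.mul_apply, Fin.sum_univ_two, ha.2, hb.1, hb.2]
      inv_mem' := fun {a} (ha : a.1 1 0 = 0 ∧ a.1 0 0 = 1) => by
        refine ⟨by rw [(inv_entries a).2.2.1, ha.1, neg_zero], ?_⟩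
        have := det_eq a
        rw [ha.1, ha.2, mul_zero, sub_zero, one_mul] at this
        rw [(inv_entries a).1, this] }
  refine sol_of_SL
    (Cfsg.Lib.Classical.PSLOver.metabelian (U.subgroupOf (Subgroup.closure ({X, Y} : Set G2))) ?_ ?_)
  · rintro a ⟨ha, ha'⟩ b ⟨hb, hb'⟩
    refine Subtype.ext (Subtype.ext ?_)
    have d1 := det_eq a.1
    have d2 := det_eq b.1
    simp only [Subgroup.coe_subtype] at ha ha' hb hb'
    rw [ha, ha', mul_zero, sub_zero, one_mul] at d1
    rw [hb, hb', mul_zero, sub_zero, one_mul] at d2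
    ext i j; fin_cases i <;> fin_cases j <;>
      simp [Matrix.mul_apply, Fin.sum_univ_two, ha, ha', hb, hb', d1, d2, add_comm]
  · rintro ⟨g, hg⟩ ⟨k, hk⟩
    have hg0 : g.1 1 0 = 0 := hle hg
    have hk0 : k.1 1 0 = 0 := hle hk
    obtain ⟨a00, a01, a10, a11⟩ := inv_entries g
    obtain ⟨b00, b01, b10, b11⟩ := inv_entries k
    show (g * k * g⁻¹ * k⁻¹).1 1 0 = 0 ∧ (g * k * g⁻¹ * k⁻¹).1 0 0 = 1
    have d1 := det_eq g
    have d2 := det_eq k
    rw [hg0, mul_zero, sub_zero] at d1
    rw [hk0, mul_zero, sub_zero] at d2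
    simp [Matrix.SpecialLinearGroup.coe_mul, Matrix.mul_apply, Fin.sum_univ_two, hg0, hk0, a00, a10, b00, b10,
      -Matrix.SpecialLinearGroup.coe_inv]
    linear_combination (k.1 0 0 * k.1 1 1) * d1 + d2

theorem upper_of_commute {n Y : G2} (h10 : n.1 1 0 = 0) (h01 : n.1 0 1 ≠ 0) (he : n.1 0 0 = n.1 1 1)
    (h : Commute (Y * n * Y⁻¹) n) : Y.1 1 0 = 0 := by
  obtain ⟨i00, i01, i10, i11⟩ := inv_entries Y
  have e := congrFun (congrFun (congrArg (fun z : G2 => z.1) h.eq) 0) 0
  simp [Matrix.SpecialLinearGroup.coe_mul, Matrix.mul_apply, Fin.sum_univ_two, h10, ← he, i00, i01, i10, i11,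
    -Matrix.SpecialLinearGroup.coe_inv] at e
  have : n.1 0 1 * (n.1 0 1 * (Y.1 1 0 * Y.1 1 0)) = 0 := by linear_combination e
  simpa [h01] using this

theorem no_root {X : G2} (hi : Irred X.1.trace 1) {n : G2} (hn : NonScalar n.1) (ht : n.1.trace * n.1.trace = 4)
    (h : Commute (X * n * X⁻¹) n) (h2 : (2 : F) ≠ 0) : False := by
  obtain ⟨w, hw, hc⟩ := exists_upper hn ⟨n.1.trace / 2, by field_simp; linear_combination ht⟩ (by simp only; field_simp; ring)
  obtain ⟨c, hc⟩ := isConj_iff.1 hc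
  have h' : Commute (c * X * c⁻¹ * (c * n * c⁻¹) * (c * X * c⁻¹)⁻¹) (c * n * c⁻¹) := by
    have := h.map (MulAut.conj c).toMonoidHom
    simpa [mul_assoc] using this
  rw [hc] at h'
  have h10 := upper_of_commute (by simp) (by simpa using hw) (by simp) h'
  set X' := c * X * c⁻¹ with hX'
  have hd := det_eq X'
  rw [h10, mul_zero, sub_zero] at hd
  refine hi (X'.1 0 0) ?_
  rw [← trace_conj c X, ← hX', Matrix.trace_fin_two]
  linear_combination -hd

theorem conj_of_cent {X Y n : G2} (h2 : (2 : F) ≠ 0) (hX : Reg X) (hn : NonScalar n.1)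
    (hnX : n ∈ Subgroup.centralizer ({X} : Set G2)) (h : Commute (Y * n * Y⁻¹) n) :
    Y * X * Y⁻¹ = X ∨ Y * X * Y⁻¹ = X⁻¹ := by
  have hcn := cen_eq_of_mem hX.1 hnX hn
  have hmem : Y * n * Y⁻¹ ∈ Subgroup.centralizer ({X} : Set G2) :=
    hcn ▸ Subgroup.mem_centralizer_singleton_iff.2 h.eq
  have hyn : NonScalar (Y * n * Y⁻¹).1 := by
    by_contra hc
    rcases scalar_pm hc with e | e
    · exact not_nonScalar_pm (Or.inl (conj_eq_one_iff.1 e)) hn
    · refine not_nonScalar_pm (Or.inr ?_) hn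
      have := congrArg (fun w => Y⁻¹ * w * Y) e
      simpa [mul_assoc] using this
  refine hX.eq_or_inv h2 ?_ (trace_conj Y X)
  rw [← cen_eq_of_mem hX.1 hmem hyn, Subgroup.mem_centralizer_singleton_iff]
  calc Y * X * Y⁻¹ * (Y * n * Y⁻¹) = Y * (X * n) * Y⁻¹ := by group
    _ = Y * (n * X) * Y⁻¹ := by rw [(Subgroup.mem_centralizer_singleton_iff.1 hnX).symm]
    _ = Y * n * Y⁻¹ * (Y * X * Y⁻¹) := by group

section Three

variable (hq4 : Fintype.card F % 4 = 3) (h3 : (3 : F) = 0)

include hq4 h3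

theorem two_ne : (2 : F) ≠ 0 := fun h => one_ne_zero (α := F) (by linear_combination h3 - h)

theorem two_not_square : ¬ IsSquare (2 : F) := by
  rw [show (2 : F) = -1 by linear_combination h3, FiniteField.isSquare_neg_one_iff, not_not]
  exact hq4

theorem irred_zero : Irred (0 : F) 1 := fun x hx => by
  refine (FiniteField.isSquare_neg_one_iff (F := F)).1 ⟨x, ?_⟩ hq4
  linear_combination -hx

theorem frame_general {X : G2} (hX : NonScalar X.1) (hT : X.1.trace ≠ 0) (hT4 : X.1.trace * X.1.trace ≠ 4) (f : Frame F)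
    (hf : f.Norm X) : False := by
  have h2 := two_ne hq4 h3
  rcases f.kind h2 (two_not_square hq4 h3) h3 hf with (h | h) | ⟨h, -⟩
  · exact not_nonScalar_pm h hX
  · exact hT (f.trace_ax h2 h)
  · exact hT4 (by rw [← sq]; exact h)

/-- Elliptic elements other than involutions. -/
theorem sol_irred_iff {X : G2} (hX : Reg X) (hi : Irred X.1.trace 1) (hT : X.1.trace ≠ 0) (Y : G2) :
    Sol X Y ↔ Y * X * Y⁻¹ = X ∨ Y * X * Y⁻¹ = X⁻¹ := by
  have h2 := two_ne hq4 h3
  refine ⟨fun h => ?_, sol_norm h2 hX⟩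
  rcases cases_of_solvable h2 hX.1 h with ⟨n, hn, hcx, hcy⟩ | ⟨f, hfX, -⟩
  swap
  · exact (frame_general hq4 h3 hX.1 hT hX.2 f hfX).elim
  by_cases ht : n.1.trace * n.1.trace = 4
  · exact (no_root hi hn ht hcx h2).elim
  have hx2 : Commute (X * X) n := by
    rcases (show Reg n from ⟨hn, ht⟩).eq_or_inv h2 (Subgroup.mem_centralizer_singleton_iff.2 hcx.eq) (trace_conj X n)
      with e | e
    · exact Commute.mul_left (mul_inv_eq_iff_eq_mul.1 e) (mul_inv_eq_iff_eq_mul.1 e)
    · refine mul_inv_eq_iff_eq_mul.1 ?_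
      calc X * X * n * (X * X)⁻¹ = X * (X * n * X⁻¹) * X⁻¹ := by group
        _ = X * n⁻¹ * X⁻¹ := by rw [e]
        _ = (X * n * X⁻¹)⁻¹ := by group
        _ = n := by rw [e, inv_inv]
  have hxx : NonScalar (X * X).1 := by
    by_contra hc
    rcases scalar_pm hc with e | e
    · rcases eq_pm_one_of_sq h2 e with e' | e'
      · exact not_nonScalar_pm (Or.inl e') hX.1
      · exact not_nonScalar_pm (Or.inr e') hX.1
    · exact hT (trace_zero_of_sq e)
  have hcen := cen_eq_of_mem hX.1 (Subgroup.mem_centralizer_singleton_iff.2 (mul_assoc X X X)) hxx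
  exact conj_of_cent h2 hX hn (hcen ▸ Subgroup.mem_centralizer_singleton_iff.2 hx2.symm.eq) hcy

/-- Split elements. -/
theorem sol_diag_iff {X : G2} (h01 : X.1 0 1 = 0) (h10 : X.1 1 0 = 0) (hne : X.1 0 0 ≠ X.1 1 1) (hT : X.1.trace ≠ 0)
    (Y : G2) : Sol X Y ↔ Y.1 1 0 = 0 ∨ Y.1 0 1 = 0 ∨ (Y.1 0 0 = 0 ∧ Y.1 1 1 = 0) := by
  have h2 := two_ne hq4 h3
  have hns : NonScalar X.1 := fun h => hne h.2.2
  have hd := det_eq X
  rw [h01, zero_mul, sub_zero] at hd
  have hreg : Reg X := ⟨hns, fun e => hne (sub_eq_zero.1 (pow_eq_zero_iff two_ne_zero |>.1 (by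
    rw [Matrix.trace_fin_two] at e; linear_combination e - 4 * hd)))⟩
  have hsq : X.1 0 0 ^ 2 - X.1 1 1 ^ 2 ≠ 0 := by
    rw [show X.1 0 0 ^ 2 - X.1 1 1 ^ 2 = (X.1 0 0 - X.1 1 1) * (X.1 0 0 + X.1 1 1) by ring, ← Matrix.trace_fin_two]
    exact mul_ne_zero (sub_ne_zero.2 hne) hT
  obtain ⟨w, hw⟩ : ∃ w : G2, ∀ g : G2, (w * g * w⁻¹).1 0 0 = g.1 1 1 ∧ (w * g * w⁻¹).1 0 1 = -g.1 1 0 ∧
      (w * g * w⁻¹).1 1 0 = -g.1 0 1 ∧ (w * g * w⁻¹).1 1 1 = g.1 0 0 := by
    let w : G2 := ⟨!![0, 1; -1, 0], by simp [Matrix.det_fin_two]⟩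
    refine ⟨w, fun g => ?_⟩
    obtain ⟨i00, i01, i10, i11⟩ := inv_entries w
    refine ⟨?_, ?_, ?_, ?_⟩ <;>
      simp [coe_mul', Matrix.mul_apply, Fin.sum_univ_two, i00, i01, i10, i11, -Matrix.SpecialLinearGroup.coe_inv] <;>
      simp [w]
  constructor
  · intro h
    rcases cases_of_solvable h2 hns h with ⟨n, hn, hcx, hcy⟩ | ⟨f, hfX, -⟩
    swap
    · exact (frame_general hq4 h3 hns hT hreg.2 f hfX).elim
    obtain ⟨i00, i01, i10, i11⟩ := inv_entries X
    have e00 := congrFun (congrFun (congrArg (fun z : G2 => z.1) hcx.eq) 0) 0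
    have e01 := congrFun (congrFun (congrArg (fun z : G2 => z.1) hcx.eq) 0) 1
    have e10 := congrFun (congrFun (congrArg (fun z : G2 => z.1) hcx.eq) 1) 0
    simp [Matrix.SpecialLinearGroup.coe_mul, Matrix.mul_apply, Fin.sum_univ_two, h01, h10, i00, i01, i10, i11,
      -Matrix.SpecialLinearGroup.coe_inv] at e00 e01 e10
    have hbc : n.1 0 1 * n.1 1 0 = 0 :=
      (mul_eq_zero.1 (show (X.1 0 0 ^ 2 - X.1 1 1 ^ 2) * (n.1 0 1 * n.1 1 0) = 0 by linear_combination e00)).resolve_left
        hsq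
    by_cases hnd : n.1 0 0 = n.1 1 1
    · rcases mul_eq_zero.1 hbc with hz | hz
      · right; left
        have hc : n.1 1 0 ≠ 0 := fun hc => hn ⟨hz, hc, hnd⟩
        have := upper_of_commute (n := w * n * w⁻¹) (Y := w * Y * w⁻¹) (by rw [(hw n).2.2.1, hz, neg_zero])
          (by rw [(hw n).2.1]; exact neg_ne_zero.2 hc) (by rw [(hw n).1, (hw n).2.2.2, hnd]) (by
            have h4 := hcy.map (MulAut.conj w).toMonoidHom
            simpa [mul_assoc] using h4)
        rw [(hw Y).2.2.1, neg_eq_zero] at this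
        exact this
      · have hb : n.1 0 1 ≠ 0 := fun hb => hn ⟨hb, hz, hnd⟩
        exact Or.inl (upper_of_commute hz hb hnd hcy)
    · have hne' : n.1 0 0 - n.1 1 1 ≠ 0 := sub_ne_zero.2 hnd
      have hx1 : X.1 0 0 * X.1 0 0 - 1 ≠ 0 := fun e => hne (by
        linear_combination X.1 1 1 * e - X.1 0 0 * hd + 0 * hd)
      have hx2 : X.1 1 1 * X.1 1 1 - 1 ≠ 0 := fun e => hne (by
        linear_combination -(X.1 0 0) * e + X.1 1 1 * hd)
      have hb : n.1 0 1 = 0 := by
        have : (n.1 0 0 - n.1 1 1) * ((X.1 0 0 * X.1 0 0 - 1) * n.1 0 1) = 0 := by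
          linear_combination -e01 + (n.1 0 0 * n.1 0 1 - n.1 0 1 * n.1 1 1) * (0 : F) + (n.1 0 0 * n.1 0 1) * hd - (n.1 1 1 * n.1 0 1) * hd
        exact (mul_eq_zero.1 ((mul_eq_zero.1 this).resolve_left hne')).resolve_left hx1
      have hc : n.1 1 0 = 0 := by
        have : (n.1 0 0 - n.1 1 1) * ((X.1 1 1 * X.1 1 1 - 1) * n.1 1 0) = 0 := by
          linear_combination e10 + (n.1 0 0 * n.1 1 0) * hd - (n.1 1 1 * n.1 1 0) * hd
        exact (mul_eq_zero.1 ((mul_eq_zero.1 this).resolve_left hne')).resolve_left hx2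
      have hnX : n ∈ Subgroup.centralizer ({X} : Set G2) := Subgroup.mem_centralizer_singleton_iff.2 (Subtype.ext (by
        rw [coe_mul', coe_mul']
        ext i j; fin_cases i <;> fin_cases j <;> simp [Matrix.mul_apply, Fin.sum_univ_two, h01, h10, hb, hc, mul_comm]))
      rcases conj_of_cent h2 hreg hn hnX hcy with e | e <;>
        have e' := congrArg (fun z : G2 => z.1) (mul_inv_eq_iff_eq_mul.1 e)
      · have a := congrFun (congrFun e' 1) 0
        simp [Matrix.mul_apply, Fin.sum_univ_two, h01, h10] at a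
        exact Or.inl ((mul_eq_zero.1 (show (X.1 0 0 - X.1 1 1) * Y.1 1 0 = 0 by linear_combination a)).resolve_left
          (sub_ne_zero.2 hne))
      · have a := congrFun (congrFun e' 0) 0
        have b := congrFun (congrFun e' 1) 1
        simp [Matrix.SpecialLinearGroup.coe_mul, Matrix.mul_apply, Fin.sum_univ_two, h01, h10, i00, i01, i10, i11,
          -Matrix.SpecialLinearGroup.coe_inv] at a b
        exact Or.inr (Or.inr
          ⟨(mul_eq_zero.1 (show (X.1 0 0 - X.1 1 1) * Y.1 0 0 = 0 by linear_combination a)).resolve_left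
            (sub_ne_zero.2 hne),
          (mul_eq_zero.1 (show (X.1 0 0 - X.1 1 1) * Y.1 1 1 = 0 by linear_combination -b)).resolve_left
            (sub_ne_zero.2 hne)⟩)
  · rintro (h | h | ⟨ha, hb⟩)
    · exact sol_upper h10 h
    · have h' := sol_upper (X := w * X * w⁻¹) (Y := w * Y * w⁻¹) (by rw [(hw X).2.2.1, h01, neg_zero])
        (by rw [(hw Y).2.2.1, h, neg_zero])
      have := solvable_map (MulAut.conj (prj w)⁻¹).toMonoidHom h'
      have e1 : ∀ g : G2, (MulAut.conj (prj w)⁻¹).toMonoidHom (prj (w * g * w⁻¹)) = prj g := fun g => by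
        show (prj w)⁻¹ * prj (w * g * w⁻¹) * (prj w)⁻¹⁻¹ = prj g
        rw [map_mul, map_mul, map_inv]; group
      rw [Set.image_pair, e1, e1] at this
      exact this
    · refine sol_norm h2 hreg (Or.inr (mul_inv_eq_iff_eq_mul.2 (Subtype.ext ?_)))
      obtain ⟨i00, i01, i10, i11⟩ := inv_entries X
      rw [coe_mul', coe_mul']
      ext i j; fin_cases i <;> fin_cases j <;>
        simp [Matrix.mul_apply, Fin.sum_univ_two, h01, h10, ha, hb, i00, i01, i10, i11,
          -Matrix.SpecialLinearGroup.coe_inv, mul_comm]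

/-- The involution `[[0, -1], [1, 0]]`. -/
def J : G2 := ⟨!![0, -1; 1, 0], by simp [Matrix.det_fin_two]⟩

omit hq4 h3 in
theorem trace_J : (J : G2).1.trace = 0 := by simp [J, Matrix.trace_fin_two]

omit hq4 h3 in
theorem trace_J_mul (Y : G2) : (J * Y).1.trace = Y.1 0 1 - Y.1 1 0 := by
  rw [coe_mul']
  simp [J, Matrix.trace_fin_two, Matrix.vecMul, dotProduct, Fin.sum_univ_two]; ring

omit hq4 h3 in
theorem J_comm_iff (Y : G2) : Y * J = J * Y ↔ Y.1 0 0 - Y.1 1 1 = 0 ∧ Y.1 0 1 + Y.1 1 0 = 0 := by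
  constructor
  · intro h
    have hm : Y.1 * J.1 = J.1 * Y.1 := congrArg (fun z : G2 => z.1) h
    have e00 := congrFun (congrFun hm 0) 0
    have e01 := congrFun (congrFun hm 0) 1
    simp [J, Matrix.mul_apply, Fin.sum_univ_two] at e00 e01
    exact ⟨by linear_combination e01, by linear_combination e00⟩
  · rintro ⟨h, h'⟩
    refine Subtype.ext ?_
    rw [coe_mul', coe_mul']
    ext i j; fin_cases i <;> fin_cases j <;> simp [J, Matrix.mul_apply, Fin.sum_univ_two]
    · linear_combination h'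
    · linear_combination h
    · linear_combination -h
    · linear_combination -h'

theorem reg_J : Reg (J : G2) := by
  have h2 := two_ne hq4 h3
  refine ⟨fun h => by simpa [J] using h.1, fun e => ?_⟩
  rw [trace_J, mul_zero] at e
  exact one_ne_zero (α := F) (by linear_combination -e - h3)

omit hq4 h3 in
theorem trace_mul_combo {X n Y : G2} (hn : NonScalar n.1) (hxt : X.1.trace = 0) (hxn : (X * n).1.trace = 0)
    (hy : Commute Y n) : (X * Y).1.trace = 0 := by
  obtain ⟨a, b, hab⟩ := exists_combo hn (congrArg (fun z : G2 => z.1) hy.eq)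
  rw [coe_mul'] at hxn ⊢
  rw [hab, combo, Matrix.mul_add, Matrix.mul_smul, Matrix.mul_smul, Matrix.mul_one, Matrix.trace_add,
    Matrix.trace_smul, Matrix.trace_smul, hxt, hxn, smul_zero, smul_zero, add_zero]

/-- Involutions. -/
theorem sol_J_iff (Y : G2) :
    Sol J Y ↔ Y.1.trace = 0 ∨ (J * Y).1.trace = 0 ∨ (Y.1 0 0 - Y.1 1 1 = 0 ∧ Y.1 0 1 + Y.1 1 0 = 0) ∨
      (Y.1.trace ^ 2 = 1 ∧ (J * Y).1.trace ^ 2 = 1) := by
  have h2 := two_ne hq4 h3
  have hJ := reg_J (F := F) hq4 h3
  have hJ2 : (J : G2) * J = -1 := sq_neg_one trace_J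
  have hJY : J * (J * Y) = -Y := by rw [← mul_assoc, hJ2, neg_mul, one_mul]
  constructor
  · intro h
    rcases cases_of_solvable h2 hJ.1 h with ⟨n, hn, hcx, hcy⟩ | ⟨f, hfX, hfY⟩
    · by_cases ht : n.1.trace * n.1.trace = 4
      · exact (no_root (by rw [trace_J]; exact irred_zero hq4 h3) hn ht hcx h2).elim
      rcases (show Reg n from ⟨hn, ht⟩).eq_or_inv h2 (Subgroup.mem_centralizer_singleton_iff.2 hcx.eq) (trace_conj J n)
        with e | e
      · rcases conj_of_cent h2 hJ hn (Subgroup.mem_centralizer_singleton_iff.2 (mul_inv_eq_iff_eq_mul.1 e).symm) hcy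
          with e' | e'
        · exact Or.inr (Or.inr (Or.inl ((J_comm_iff Y).1 (mul_inv_eq_iff_eq_mul.1 e'))))
        · refine Or.inl (trace_of_anti h2 (m := J) ?_)
          rw [mul_inv_eq_iff_eq_mul.1 e', inv_eq_of_mul_eq_one_right (show (J : G2) * -J = 1 by rw [mul_neg, hJ2, neg_neg]),
            neg_mul]
      · have hxn : (J * n).1.trace = 0 := trace_zero_of_sq (by
          calc J * n * (J * n) = J * n * J⁻¹ * (J * J) * n := by group
            _ = -1 := by rw [e, hJ2, mul_neg, mul_one, neg_mul, inv_mul_cancel])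
        rcases (show Reg n from ⟨hn, ht⟩).eq_or_inv h2 (Subgroup.mem_centralizer_singleton_iff.2 hcy.eq)
          (trace_conj Y n) with e' | e'
        · exact Or.inr (Or.inl (trace_mul_combo hn trace_J hxn (mul_inv_eq_iff_eq_mul.1 e')))
        · have h5 := trace_mul_combo hn trace_J hxn (Y := J * Y) (mul_inv_eq_iff_eq_mul.1 (by
            calc J * Y * n * (J * Y)⁻¹ = J * (Y * n * Y⁻¹) * J⁻¹ := by group
              _ = J * n⁻¹ * J⁻¹ := by rw [e']
              _ = (J * n * J⁻¹)⁻¹ := by group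
              _ = n := by rw [e, inv_inv]))
          rw [hJY, trace_neg', neg_eq_zero] at h5
          exact Or.inl h5
    · have hns := two_not_square hq4 h3
      have hJax : f.Ax J := by
        rcases f.kind h2 hns h3 hfX with (h | h) | ⟨h, -⟩
        · exact absurd hJ.1 (not_nonScalar_pm h)
        · exact h
        · exact absurd (show (J : G2).1.trace * (J : G2).1.trace = 4 by rw [← sq]; exact h) hJ.2
      have h4 : (4 : F) = 1 := by linear_combination h3
      rcases f.kind h2 hns h3 hfY with (h | h) | ⟨h, hmove⟩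
      · refine Or.inr (Or.inr (Or.inl ((J_comm_iff Y).1 ?_)))
        rcases h with rfl | rfl <;> simp
      · exact Or.inl (f.trace_ax h2 h)
      · refine Or.inr (Or.inr (Or.inr ⟨by rw [h, h4], ?_⟩))
        rcases f.kind h2 hns h3 (hfX.mul hfY) with hc | ⟨hc, -⟩
        · exfalso
          have a := (f.first_fix h2 hc).conj J⁻¹
          rw [show J⁻¹ * (J * Y * f.i * (J * Y)⁻¹) * J⁻¹⁻¹ = Y * f.i * Y⁻¹ by group] at a
          have b := (f.first_fix h2 (Or.inr hJax)).conj J⁻¹
          rw [show J⁻¹ * (J * f.i * J⁻¹) * J⁻¹⁻¹ = f.i by group] at b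
          exact hmove (a.trans b.symm)
        · rw [hc, h4]
  · have hj := prj_sq (F := F) (g := J) trace_J
    rintro (h | h | h | ⟨ht, hs⟩)
    · exact solvable_involutions hj (prj_sq h)
    · show Group.IsSolvable ↥(Subgroup.closure _)
      rw [closure_change (a := prj J) (b := prj (J * Y)) (Subgroup.subset_closure (by simp))
        (by rw [map_mul]; exact mul_mem (Subgroup.subset_closure (by simp)) (Subgroup.subset_closure (by simp)))
        (Subgroup.subset_closure (by simp)) (by
          have : prj Y = prj J * prj (J * Y) := by rw [map_mul, ← mul_assoc, hj, one_mul]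
          rw [this]
          exact mul_mem (Subgroup.subset_closure (by simp)) (Subgroup.subset_closure (by simp)))]
      exact solvable_involutions hj (prj_sq h)
    · exact sol_norm h2 hJ (Or.inl (mul_inv_eq_iff_eq_mul.2 ((J_comm_iff Y).2 h)))
    · exact sol_two_three trace_J ht hs

/-- Elements of order three. -/
theorem sol_three_iff {X : G2} {e v : F} (he : e * e = 1) (hv : v ≠ 0) (h00 : X.1 0 0 = e) (h01 : X.1 0 1 = v)
    (h10 : X.1 1 0 = 0) (h11 : X.1 1 1 = e) (Y : G2) :
    Sol X Y ↔ Y.1 1 0 = 0 ∨ ((v * Y.1 1 0) ^ 2 = 1 ∧ (Y.1.trace = 0 ∨ Y.1.trace ^ 2 = 1)) := by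
  have h2 := two_ne hq4 h3
  have hns : NonScalar X.1 := fun h => hv (h01.symm.trans h.1)
  have hT : X.1.trace = e + e := by rw [Matrix.trace_fin_two, h00, h11]
  obtain ⟨i00, i01, i10, i11⟩ := inv_entries X
  have hs : (X * Y).1.trace = e * Y.1.trace + v * Y.1 1 0 := by
    simp [coe_mul', Matrix.trace_fin_two, Matrix.mul_apply, Fin.sum_univ_two, h00, h01, h10, h11]; ring
  have hs' : (X⁻¹ * Y).1.trace = e * Y.1.trace - v * Y.1 1 0 := by
    simp [coe_mul', Matrix.trace_fin_two, Matrix.mul_apply, Fin.sum_univ_two, h00, h01, h10, h11, i00, i01, i10, i11,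
      -Matrix.SpecialLinearGroup.coe_inv]
    ring
  have hT1 : X.1.trace ^ 2 = 1 := by rw [hT]; linear_combination 4 * he + h3
  constructor
  · intro h
    rcases cases_of_solvable h2 hns h with ⟨n, hn, hcx, hcy⟩ | ⟨f, hfX, hfY⟩
    · left
      have e10 := congrFun (congrFun (congrArg (fun z : G2 => z.1) hcx.eq) 1) 0
      have e01 := congrFun (congrFun (congrArg (fun z : G2 => z.1) hcx.eq) 0) 1
      simp [Matrix.SpecialLinearGroup.coe_mul, Matrix.mul_apply, Fin.sum_univ_two, h00, h01, h10, h11, i00, i01, i10,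
        i11, -Matrix.SpecialLinearGroup.coe_inv] at e10 e01
      have he0 : e ≠ 0 := left_ne_zero_of_mul_eq_one he
      have hn10 : n.1 1 0 = 0 := by
        have : (2 * e * v) * (n.1 1 0 * n.1 1 0) = 0 := by
          linear_combination -e10 + (0 : F) * he
        simpa [h2, he0, hv] using this
      rw [hn10] at e01
      have hn00 : n.1 0 0 = n.1 1 1 := by
        have : (e * v) * ((n.1 0 0 - n.1 1 1) * (n.1 0 0 - n.1 1 1)) = 0 := by linear_combination e01
        simpa [he0, hv, sub_eq_zero] using this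
      exact upper_of_commute hn10 (fun hb => hn ⟨hb, hn10, hn00⟩) hn00 hcy
    · have hnsq := two_not_square hq4 h3
      have h4 : (4 : F) = 1 := by linear_combination h3
      have hmove : ¬ PM (X * f.i * X⁻¹) f.i := fun hp => by
        rcases f.fix_case h2 hnsq hfX hp with h | h
        · exact not_nonScalar_pm h hns
        · exact one_ne_zero (α := F) (by rw [← hT1, f.trace_ax h2 h]; ring)
      rcases f.kind h2 hnsq h3 hfY with (h | h) | ⟨h, hmY⟩
      · left
        rcases h with rfl | rfl <;> simp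
      · refine Or.inr ⟨?_, Or.inl (f.trace_ax h2 h)⟩
        rcases f.kind h2 hnsq h3 (hfX.mul hfY) with hc | ⟨hc, -⟩
        · exfalso
          refine hmove ?_
          have a := f.first_fix h2 hc
          have b := (f.first_fix h2 (Or.inr h)).conj X
          rw [show X * (Y * f.i * Y⁻¹) * X⁻¹ = X * Y * f.i * (X * Y)⁻¹ by group] at b
          exact b.symm.trans a
        · rw [hs, f.trace_ax h2 h, mul_zero, zero_add] at hc
          rw [hc, h4]
      · -- two of the three axes images agree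
        have hj3 := hfY f.i (Or.inl (Or.inl rfl))
        have hj1 := hfX f.i (Or.inl (Or.inl rfl))
        have hj2 := hfX.inv f.i (Or.inl (Or.inl rfl))
        have hmove' : ¬ PM (X⁻¹ * f.i * X⁻¹⁻¹) f.i := fun hp => hmove (by
          have := (hp.conj X).symm
          rwa [show X * (X⁻¹ * f.i * X⁻¹⁻¹) * X⁻¹ = f.i by group] at this)
        have hdiff : ¬ PM (X * f.i * X⁻¹) (X⁻¹ * f.i * X⁻¹⁻¹) := fun hp => by
          have hq := hp.conj X
          rw [show X * (X * f.i * X⁻¹) * X⁻¹ = X * X * f.i * (X * X)⁻¹ by group,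
            show X * (X⁻¹ * f.i * X⁻¹⁻¹) * X⁻¹ = f.i by group] at hq
          have htr : (X * X).1.trace = 2 := by
            rw [coe_mul', sq_eq, Matrix.trace_sub, Matrix.trace_smul, Matrix.trace_one, Fintype.card_fin, smul_eq_mul,
              ← sq, hT1]
            linear_combination -h3
          rcases f.fix_case h2 hnsq (hfX.mul hfX) hq with h | h
          · rcases h with h | h
            · rcases eq_pm_one_of_sq h2 h with h' | h' <;> exact not_nonScalar_pm (by tauto) hns
            · exact one_ne_zero (α := F) (by rw [← hT1, trace_zero_of_sq h]; ring)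
          · exact h2 (by rw [← htr]; exact f.trace_ax h2 h)
        have hchoice : PM (Y * f.i * Y⁻¹) (X * f.i * X⁻¹) ∨ PM (Y * f.i * Y⁻¹) (X⁻¹ * f.i * X⁻¹⁻¹) := by
          have c1 := hj1.resolve_left hmove
          have c2 := hj2.resolve_left hmove'
          have c3 := hj3.resolve_left hmY
          rcases c1 with c1 | c1 <;> rcases c2 with c2 | c2 <;> rcases c3 with c3 | c3
          all_goals first
            | exact absurd (c1.trans c2.symm) hdiff
            | exact Or.inl (c3.trans c1.symm)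
            | exact Or.inr (c3.trans c2.symm)
        obtain ⟨Z, hZ, hfix⟩ : ∃ Z, (Z = X ∨ Z = X⁻¹) ∧ PM (Z⁻¹ * Y * f.i * (Z⁻¹ * Y)⁻¹) f.i := by
          rcases hchoice with c | c
          · refine ⟨X, Or.inl rfl, ?_⟩
            have := c.conj X⁻¹
            rwa [show X⁻¹ * (Y * f.i * Y⁻¹) * X⁻¹⁻¹ = X⁻¹ * Y * f.i * (X⁻¹ * Y)⁻¹ by group,
              show X⁻¹ * (X * f.i * X⁻¹) * X⁻¹⁻¹ = f.i by group] at this
          · refine ⟨X⁻¹, Or.inr rfl, ?_⟩
            have := c.conj X
            rw [inv_inv] at this ⊢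
            rwa [show X * (Y * f.i * Y⁻¹) * X⁻¹ = X * Y * f.i * (X * Y)⁻¹ by group,
              show X * (X⁻¹ * f.i * X) * X⁻¹ = f.i by group] at this
        have hnZ : f.Norm (Z⁻¹ * Y) := by
          rcases hZ with rfl | rfl
          · exact hfX.inv.mul hfY
          · rw [inv_inv]; exact hfX.mul hfY
        rcases f.fix_case h2 hnsq hnZ hfix with hsc | hax
        · left
          have hZ10 : Z.1 1 0 = 0 := by
            rcases hZ with rfl | rfl
            · exact h10
            · rw [i10, h10, neg_zero]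
          rcases hsc with e' | e'
          · rw [← inv_mul_eq_one.1 e']; exact hZ10
          · rw [show Y = -Z by rw [← mul_inv_cancel_left Z Y, e', mul_neg, mul_one]]
            simp [coe_neg', hZ10]
        · refine Or.inr ⟨?_, Or.inr (by rw [h, h4])⟩
          have hz := f.trace_ax h2 hax
          have h1 : Y.1.trace ^ 2 = 1 := by rw [h, h4]
          rcases hZ with rfl | rfl
          · rw [hs'] at hz
            linear_combination -(e * Y.1.trace + v * Y.1 1 0) * hz + h1 + Y.1.trace ^ 2 * he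
          · rw [inv_inv, hs] at hz
            linear_combination -(e * Y.1.trace - v * Y.1 1 0) * hz + h1 + Y.1.trace ^ 2 * he
  · rintro (h | ⟨hc, ht | ht⟩)
    · exact sol_upper h10 h
    · show Group.IsSolvable ↥(Subgroup.closure _)
      rw [Set.pair_comm]
      exact sol_two_three ht hT1 (by
        rw [coe_mul', Matrix.trace_mul_comm, ← coe_mul', hs, ht, mul_zero, zero_add, hc])
    · have hprod : (X * Y).1.trace * (X⁻¹ * Y).1.trace = 0 := by
        rw [hs, hs']; linear_combination Y.1.trace ^ 2 * he + ht - hc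
      show Group.IsSolvable ↥(Subgroup.closure _)
      rcases mul_eq_zero.1 hprod with hz | hz
      · rw [closure_change (a := prj (X * Y)) (b := prj X⁻¹)
          (by rw [map_mul]; exact mul_mem (Subgroup.subset_closure (by simp)) (Subgroup.subset_closure (by simp)))
          (by rw [map_inv]; exact inv_mem (Subgroup.subset_closure (by simp)))
          (by
            have : prj X = (prj X⁻¹)⁻¹ := by rw [map_inv, inv_inv]
            rw [this]; exact inv_mem (Subgroup.subset_closure (by simp)))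
          (by
            have : prj Y = prj X⁻¹ * prj (X * Y) := by rw [map_mul, map_inv, inv_mul_cancel_left]
            rw [this]; exact mul_mem (Subgroup.subset_closure (by simp)) (Subgroup.subset_closure (by simp)))]
        exact sol_two_three hz (by rw [trace_inv]; exact hT1) (by rw [trace_conj]; exact ht)
      · rw [closure_change (a := prj (X⁻¹ * Y)) (b := prj X)
          (by rw [map_mul, map_inv]; exact mul_mem (inv_mem (Subgroup.subset_closure (by simp))) (Subgroup.subset_closure (by simp)))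
          (Subgroup.subset_closure (by simp)) (Subgroup.subset_closure (by simp))
          (by
            have : prj Y = prj X * prj (X⁻¹ * Y) := by rw [map_mul, map_inv, mul_inv_cancel_left]
            rw [this]; exact mul_mem (Subgroup.subset_closure (by simp)) (Subgroup.subset_closure (by simp)))]
        refine sol_two_three hz hT1 ?_
        have := trace_conj X⁻¹ Y
        rw [inv_inv] at this
        rw [this]; exact ht

end Three

end Cfsg.Lib.SolubThree
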