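import Cfsg.Agent.Classical.Misc.PSLOver
import Mathlib

/-!
Solvable two-generated subgroups: dihedral and tetrahedral generating pairs, and the normal abelian subgroup behind
any of them.
-/

set_option autoImplicit false

namespace Cfsg.Lib.SolubThree

variable {G : Type*} [Group G]

/-- The number of elements generating a solvable subgroup with `x`. -/
noncomputable def solCard (x : G) : ℕ :=
  Nat.card {y : G // Group.IsSolvable ↥(Subgroup.closure ({x, y} : Set G))}

theorem solvable_map {H : Type*} [Group H] (f : G →* H) {s : Set G}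
    (h : Group.IsSolvable ↥(Subgroup.closure s)) : Group.IsSolvable ↥(Subgroup.closure (f '' s)) := by
  rw [← MonoidHom.map_closure]
  exact solvable_of_surjective (f := f.subgroupMap (Subgroup.closure s)) (f.subgroupMap_surjective _)

theorem solCard_congr {H : Type*} [Group H] (e : G ≃* H) (x : G) : solCard (e x) = solCard x := by
  refine (Nat.card_congr (e.toEquiv.subtypeEquiv fun y => ?_)).symm
  constructor
  · intro h
    have := solvable_map (e : G →* H) h
    rwa [Set.image_pair] at this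
  · intro h
    have h1 := solvable_map (e.symm : H →* G) h
    have h2 : (e.symm : H →* G) '' ({e x, e.toEquiv y} : Set H) = {x, y} := by
      rw [Set.image_pair]
      exact congrArg₂ (fun a b => ({a, b} : Set G)) (e.symm_apply_apply x) (e.symm_apply_apply y)
    rwa [h2] at h1

theorem solCard_isConj {x x' : G} (h : IsConj x x') : solCard x' = solCard x := by
  obtain ⟨c, rfl⟩ := isConj_iff.1 h
  exact solCard_congr (MulAut.conj c) x

/-- A subgroup generated by an abelian subgroup and powers of one element normalising it is solvable. -/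
theorem solvable_normalized (C : Subgroup G) (hC : ∀ a ∈ C, ∀ b ∈ C, a * b = b * a) (s : G)
    (hs : s ∈ Subgroup.normalizer (C : Set G)) (K : Set G) (hK : ∀ k ∈ K, k ∈ C ∨ k * s⁻¹ ∈ C) :
    Group.IsSolvable ↥(Subgroup.closure K) := by
  set N := Subgroup.normalizer (C : Set G) with hN
  have hCN : C ≤ N := Subgroup.le_normalizer
  have hle : Subgroup.closure K ≤ N := (Subgroup.closure_le N).2 fun k hk => (hK k hk).elim (fun h => hCN h) fun h => by
    have := mul_mem (hCN h) hs
    rwa [inv_mul_cancel_right] at this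
  haveI hn : (C.subgroupOf N).Normal := Subgroup.normal_in_normalizer
  let π : N →* N ⧸ C.subgroupOf N := QuotientGroup.mk' _
  have hπ : ∀ (g : G) (hg : g ∈ Subgroup.closure K), π ⟨g, hle hg⟩ ∈ Subgroup.zpowers (π ⟨s, hs⟩) := by
    intro g hg
    induction hg using Subgroup.closure_induction with
    | mem k hk =>
      rcases hK k hk with h | h
      · rw [show π ⟨k, hle (Subgroup.subset_closure hk)⟩ = 1 from (QuotientGroup.eq_one_iff _).2 h]
        exact one_mem _
      · refine ⟨1, (zpow_one _).trans ((QuotientGroup.eq).2 ?_)⟩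
        have h2 := (Subgroup.mem_normalizer_iff''.1 hs _).1 h
        show s⁻¹ * k ∈ C
        rwa [show s⁻¹ * (k * s⁻¹) * s = s⁻¹ * k by group] at h2
    | one => exact ⟨0, (zpow_zero _).trans (map_one π).symm⟩
    | mul a b _ _ ha hb =>
      have := mul_mem ha hb
      rw [← map_mul] at this
      exact this
    | inv a _ ha =>
      have := inv_mem ha
      rw [← map_inv] at this
      exact this
  refine Cfsg.Lib.Classical.PSLOver.metabelian (C.subgroupOf (Subgroup.closure K))
    (fun a ha b hb => Subtype.ext (hC _ ha _ hb)) ?_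
  rintro ⟨g, hg⟩ ⟨k, hk⟩
  show g * k * g⁻¹ * k⁻¹ ∈ C
  obtain ⟨i, hi⟩ := hπ g hg
  obtain ⟨j, hj⟩ := hπ k hk
  have hc : π ⟨g, hle hg⟩ * π ⟨k, hle hk⟩ = π ⟨k, hle hk⟩ * π ⟨g, hle hg⟩ := by
    rw [← hi, ← hj]; exact (Commute.zpow_zpow_self _ i j).eq
  have h1 : π (⟨g, hle hg⟩ * ⟨k, hle hk⟩ * ⟨g, hle hg⟩⁻¹ * ⟨k, hle hk⟩⁻¹) = 1 := by
    rw [map_mul, map_mul, map_mul, hc, map_inv, map_inv, mul_inv_cancel_right, mul_inv_cancel]
  have h2 : (⟨g, hle hg⟩ : ↥N) * ⟨k, hle hk⟩ * (⟨g, hle hg⟩ : ↥N)⁻¹ * (⟨k, hle hk⟩ : ↥N)⁻¹ ∈ π.ker :=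
    MonoidHom.mem_ker.2 h1
  rw [QuotientGroup.ker_mk'] at h2
  exact h2

theorem closure_comm {a b : G} (h : Commute a b) :
    ∀ u ∈ Subgroup.closure ({a, b} : Set G), ∀ v ∈ Subgroup.closure ({a, b} : Set G), u * v = v * u := by
  have h1 : Subgroup.closure ({a, b} : Set G) ≤ Subgroup.centralizer ({a, b} : Set G) := by
    refine (Subgroup.closure_le _).2 ?_
    rintro u (rfl | rfl) <;> rw [SetLike.mem_coe, Subgroup.mem_centralizer_iff] <;> rintro v (rfl | rfl)
    · rfl
    · exact h.symm.eq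
    · exact h.eq
    · rfl
  have h2 : Subgroup.closure ({a, b} : Set G) ≤ Subgroup.centralizer (Subgroup.closure ({a, b} : Set G) : Set G) := by
    refine (Subgroup.closure_le _).2 fun u hu => ?_
    rw [SetLike.mem_coe, Subgroup.mem_centralizer_iff]
    exact fun v hv => (Subgroup.mem_centralizer_iff.1 (h1 hv) u hu).symm
  exact fun u hu v hv => (Subgroup.mem_centralizer_iff.1 (h2 hu) v hv).symm

theorem mem_normalizer_of {C : Subgroup G} {s : G} (h : ∀ c ∈ C, s * c * s⁻¹ ∈ C) (h' : ∀ c ∈ C, s⁻¹ * c * s ∈ C) :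
    s ∈ Subgroup.normalizer (C : Set G) := Subgroup.mem_normalizer_iff.2 fun c => ⟨h c, fun hc => by
      have := h' _ hc
      rwa [show s⁻¹ * (s * c * s⁻¹) * s = c by group] at this⟩

/-- Two involutions generate a solvable group. -/
theorem solvable_involutions {s t : G} (hs : s * s = 1) (ht : t * t = 1) :
    Group.IsSolvable ↥(Subgroup.closure ({s, t} : Set G)) := by
  have hsi : s⁻¹ = s := inv_eq_of_mul_eq_one_right hs
  have hti : t⁻¹ = t := inv_eq_of_mul_eq_one_right ht
  have hconj : s * (s * t) * s⁻¹ = (s * t)⁻¹ := by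
    rw [mul_inv_rev, hsi, hti, ← mul_assoc, hs, one_mul]
  have key : ∀ c ∈ Subgroup.zpowers (s * t), s * c * s⁻¹ ∈ Subgroup.zpowers (s * t) := by
    rintro _ ⟨i, rfl⟩
    refine ⟨-i, ?_⟩
    simp only [← conj_zpow, hconj, inv_zpow, zpow_neg]
  refine solvable_normalized (Subgroup.zpowers (s * t)) ?_ s
    (mem_normalizer_of key fun c hc => by have := key c hc; rwa [hsi] at this ⊢) _ ?_
  · rintro _ ⟨i, rfl⟩ _ ⟨j, rfl⟩
    exact (Commute.zpow_zpow_self _ i j).eq
  · rintro z (rfl | rfl)
    · exact Or.inr (by rw [mul_inv_cancel]; exact one_mem _)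
    · exact Or.inr ⟨-1, by simp only [zpow_neg_one, mul_inv_rev, hti]⟩

/-- A tetrahedral pair generates a solvable group. -/
theorem solvable_two_three {x y : G} (hx : x * x = 1) (hy : y * y * y = 1) (hxy : x * y * (x * y) * (x * y) = 1) :
    Group.IsSolvable ↥(Subgroup.closure ({x, y} : Set G)) := by
  set b := y * x * y⁻¹ with hb
  set c := y⁻¹ * x * y with hc
  have hyy : y * y = y⁻¹ := eq_inv_of_mul_eq_one_left hy
  have habc : x * b * c = 1 := by
    calc x * b * c = x * y * x * (y⁻¹ * y⁻¹) * x * y := by rw [hb, hc]; group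
      _ = x * y * x * (y * y)⁻¹ * x * y := by group
      _ = x * y * x * y * x * y := by rw [hyy, inv_inv]
      _ = x * y * (x * y) * (x * y) := by group
      _ = 1 := hxy
  have hb2 : b * b = 1 := by
    rw [hb, show y * x * y⁻¹ * (y * x * y⁻¹) = y * (x * x) * y⁻¹ by group, hx, mul_one, mul_inv_cancel]
  have hc2 : c * c = 1 := by
    rw [hc, show y⁻¹ * x * y * (y⁻¹ * x * y) = y⁻¹ * (x * x) * y by group, hx, mul_one, inv_mul_cancel]
  have hxb : x * b = c := (eq_inv_of_mul_eq_one_left habc).trans (inv_eq_of_mul_eq_one_right hc2)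
  have hcomm : Commute x b := by
    have h1 : (x * b)⁻¹ = x * b := by rw [hxb]; exact inv_eq_of_mul_eq_one_right hc2
    rw [mul_inv_rev, inv_eq_of_mul_eq_one_right hx, inv_eq_of_mul_eq_one_right hb2] at h1
    exact h1.symm
  set C := Subgroup.closure ({x, b} : Set G) with hCdef
  have hxC : x ∈ C := Subgroup.subset_closure (by simp)
  have hbC : b ∈ C := Subgroup.subset_closure (by simp)
  have hcC : c ∈ C := hxb ▸ mul_mem hxC hbC
  have hmap : ∀ g : G, g * x * g⁻¹ ∈ C → g * b * g⁻¹ ∈ C → ∀ v ∈ C, g * v * g⁻¹ ∈ C := by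
    intro g h1 h2 v hv
    have : C ≤ C.comap (MulAut.conj g).toMonoidHom := (Subgroup.closure_le _).2 (by
      rintro u (rfl | rfl)
      · exact h1
      · exact h2)
    exact this hv
  refine solvable_normalized C (closure_comm hcomm) y (mem_normalizer_of ?_ ?_) _ ?_
  · refine hmap y hbC ?_
    rw [hb, show y * (y * x * y⁻¹) * y⁻¹ = y * y * x * (y * y)⁻¹ by group, hyy, inv_inv, ← hc]
    exact hcC
  · intro v hv
    have := hmap y⁻¹ (by rw [inv_inv, ← hc]; exact hcC) (by
      rw [hb, inv_inv, show y⁻¹ * (y * x * y⁻¹) * y = x by group]; exact hxC) v hv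
    rwa [inv_inv] at this
  · rintro z (rfl | rfl)
    · exact Or.inl hxC
    · exact Or.inr (by rw [mul_inv_cancel]; exact one_mem _)

/-- Behind a solvable pair: a nontrivial abelian subgroup normalised by both. -/
theorem exists_abelian_normal {x y : G} (h : Group.IsSolvable ↥(Subgroup.closure ({x, y} : Set G))) (hx : x ≠ 1) :
    ∃ A : Subgroup G, A ≠ ⊥ ∧ (∀ a ∈ A, ∀ b ∈ A, a * b = b * a) ∧
      (∀ a ∈ A, x * a * x⁻¹ ∈ A) ∧ ∀ a ∈ A, y * a * y⁻¹ ∈ A := by
  classical
  set H := Subgroup.closure ({x, y} : Set G) with hH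
  rw [Group.isSolvable_def] at h
  have hk : Nat.find h ≠ 0 := by
    intro h0
    have h1 := Nat.find_spec h
    rw [h0, derivedSeries_zero] at h1
    have : (⟨x, Subgroup.subset_closure (by simp)⟩ : H) ∈ (⊥ : Subgroup H) := h1 ▸ Subgroup.mem_top _
    exact hx (congrArg Subtype.val (Subgroup.mem_bot.1 this))
  obtain ⟨k, hk⟩ := Nat.exists_eq_succ_of_ne_zero hk
  have hspec := Nat.find_spec h
  rw [hk, derivedSeries_succ] at hspec
  have hconj : ∀ (g : H) (a : G), a ∈ (derivedSeries H k).map H.subtype →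
      (g : G) * a * (g : G)⁻¹ ∈ (derivedSeries H k).map H.subtype := by
    rintro g _ ⟨a, ha, rfl⟩
    exact ⟨g * a * g⁻¹, (derivedSeries_normal H k).conj_mem a ha g, by simp⟩
  refine ⟨(derivedSeries H k).map H.subtype, fun e => ?_, ?_,
    hconj ⟨x, Subgroup.subset_closure (by simp)⟩, hconj ⟨y, Subgroup.subset_closure (by simp)⟩⟩
  · exact Nat.find_min h (show k < Nat.find h by omega)
      ((Subgroup.map_eq_bot_iff_of_injective _ H.subtype_injective).1 e)
  · rintro _ ⟨a, ha, rfl⟩ _ ⟨b, hb, rfl⟩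
    have := Subgroup.commutator_mem_commutator ha hb
    rw [hspec, Subgroup.mem_bot, commutatorElement_eq_one_iff_mul_comm] at this
    exact congrArg Subtype.val this

end Cfsg.Lib.SolubThree
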