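import Cfsg.Agent.Known.SLTwo.Torus
import Cfsg.Agent.Known.SLTwo.Tori
import Cfsg.Agent.Known.SolubilizerThree.Groups
import Mathlib

/-!
Quaternion frames in `SL (2, q)` when `2` is a non-square, and the two kinds of elements normalising one.
-/

set_option autoImplicit false
set_option linter.unusedSectionVars false

open Matrix
open scoped MatrixGroups

namespace Cfsg.Lib.SolubThree

open Cfsg.Lib.GLTwo

variable {F : Type*} [Field F]

local notation "G2" => SL(2, F)

theorem coe_mul' (g h : G2) : (g * h).1 = g.1 * h.1 := rfl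

theorem coe_neg' (g : G2) : (-g).1 = -g.1 := rfl

theorem coe_one' : (1 : G2).1 = 1 := rfl

theorem det_eq (g : G2) : g.1 0 0 * g.1 1 1 - g.1 0 1 * g.1 1 0 = 1 := by
  rw [← Matrix.det_fin_two]; exact g.2

theorem inv_entries (g : G2) :
    (g⁻¹).1 0 0 = g.1 1 1 ∧ (g⁻¹).1 0 1 = -g.1 0 1 ∧ (g⁻¹).1 1 0 = -g.1 1 0 ∧ (g⁻¹).1 1 1 = g.1 0 0 := by
  refine ⟨?_, ?_, ?_, ?_⟩ <;>
    simp [Matrix.SpecialLinearGroup.coe_inv, Matrix.adjugate_fin_two]

theorem trace_conj (y n : G2) : (y * n * y⁻¹).1.trace = n.1.trace :=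
  (trace_eq_of_isConj (isConj_iff.2 ⟨y, rfl⟩)).symm

theorem trace_neg' (n : G2) : (-n).1.trace = -n.1.trace := by rw [coe_neg', Matrix.trace_neg]

/-- Cayley–Hamilton. -/
theorem sq_eq (g : G2) : g.1 * g.1 = g.1.trace • g.1 - 1 := by
  have h := det_eq g
  ext i j
  fin_cases i <;> fin_cases j <;> simp [Matrix.mul_apply, Fin.sum_univ_two, Matrix.trace_fin_two]
  · linear_combination -h
  · ring
  · ring
  · linear_combination -h

theorem sq_neg_one {g : G2} (h : g.1.trace = 0) : g * g = -1 :=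
  Subtype.ext (by rw [coe_mul', sq_eq, h, zero_smul, zero_sub, coe_neg', coe_one'])

theorem trace_zero_of_sq {g : G2} (h : g * g = -1) : g.1.trace = 0 := by
  by_contra ht
  have e : g.1.trace • g.1 = 0 := by
    have h1 := congrArg (fun z : G2 => z.1) h
    rwa [coe_mul', sq_eq, coe_neg', coe_one', sub_eq_neg_self] at h1
  have hg := (smul_eq_zero.1 e).resolve_left ht
  have := g.2
  rw [hg] at this
  simp [Matrix.det_fin_two] at this

/-- `g` is `h` up to sign. -/
def PM (g h : G2) : Prop := g = h ∨ g = -h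

theorem prj_eq_iff {g h : G2} : prj g = prj h ↔ PM g h := by
  constructor
  · intro e
    have : prj (g * h⁻¹) = 1 := by rw [map_mul, map_inv, e, mul_inv_cancel]
    rcases (prj_eq_one_iff _).1 this with h' | h'
    · exact Or.inl (mul_inv_eq_one.1 h')
    · exact Or.inr (by rw [mul_inv_eq_iff_eq_mul.1 h', neg_mul, one_mul])
  · rintro (rfl | rfl)
    · rfl
    · rw [show -h = -1 * h by rw [neg_mul, one_mul], map_mul, (prj_eq_one_iff (-1 : G2)).2 (Or.inr rfl), one_mul]

theorem PM.conj {g h : G2} (e : PM g h) (k : G2) : PM (k * g * k⁻¹) (k * h * k⁻¹) :=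
  e.imp (fun e => by rw [e]) fun e => by rw [e, mul_neg, neg_mul]

theorem PM.trans {g h k : G2} (e : PM g h) (e' : PM h k) : PM g k := by
  rcases e with rfl | rfl <;> rcases e' with rfl | rfl <;> simp [PM]

theorem PM.symm {g h : G2} (e : PM g h) : PM h g := by rcases e with rfl | rfl <;> simp [PM]

/-- Commute up to sign. -/
def CA (w n : G2) : Prop := w * n = n * w ∨ w * n = -(n * w)

theorem CA.of_prj {w n : G2} (h : prj w * prj n = prj n * prj w) : CA w n :=
  prj_eq_iff.1 (by rw [map_mul, map_mul]; exact h)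

theorem CA.mul {v w n : G2} (hv : CA v n) (hw : CA w n) : CA (v * w) n := by
  rcases hv with e | e <;> rcases hw with e' | e' <;> simp [CA, mul_assoc, e', ← mul_assoc v n, e]

theorem CA.symm {w n : G2} (h : CA w n) : CA n w :=
  h.imp Eq.symm fun e => by rw [e, neg_neg]

theorem CA.refl (n : G2) : CA n n := Or.inl rfl

theorem CA.neg {w n : G2} (h : CA w n) : CA (-w) n :=
  h.imp (fun e => by rw [neg_mul, mul_neg, e]) fun e => by rw [neg_mul, mul_neg, e]

section Char

variable (h2 : (2 : F) ≠ 0)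

include h2

theorem neg_ne (g : G2) : -g ≠ g := fun e => by
  have h : (-g).1 = g.1 := congrArg (fun z : G2 => z.1) e
  rw [coe_neg', neg_eq_iff_add_eq_zero, ← two_smul F, smul_eq_zero] at h
  have hd := g.2
  rw [h.resolve_left h2] at hd
  simp [Matrix.det_fin_two] at hd

theorem trace_of_anti {n m : G2} (h : n * m = -(m * n)) : n.1.trace = 0 := by
  have h1 := trace_conj m n
  rw [show m * n * m⁻¹ = -n by rw [← neg_neg (m * n), ← h, neg_mul, mul_inv_cancel_right], trace_neg'] at h1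
  exact (mul_eq_zero.1 (show (2 : F) * n.1.trace = 0 by linear_combination -h1)).resolve_left h2

theorem nonScalar_of_anti {n m : G2} (h : n * m = -(m * n)) : NonScalar n.1 := by
  by_contra hn
  rcases scalar_pm hn with e | e <;> rw [e] at h <;> simp at h <;> exact neg_ne h2 m (by first | exact h | exact h.symm)

theorem eq_self_or_neg {n m w : G2} (hnm : n * m = -(m * n)) (hc : w * n = n * w) (ha : w * m = -(m * w)) :
    PM w n := by
  obtain ⟨a, b, hab⟩ := exists_combo (nonScalar_of_anti h2 hnm) (congrArg (fun z : G2 => z.1) hc)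
  have e : w.1 * m.1 = -(m.1 * w.1) := congrArg (fun z : G2 => z.1) ha
  have e' : n.1 * m.1 = -(m.1 * n.1) := congrArg (fun z : G2 => z.1) hnm
  rw [hab] at e
  simp only [combo, add_mul, mul_add, smul_mul_assoc, mul_smul_comm, one_mul, mul_one, e', smul_neg] at e
  have h3 : (2 * a) • m.1 = 0 := by
    rw [mul_smul, two_smul]
    linear_combination (norm := abel) e
  have hm : m.1 ≠ 0 := fun h => by
    have := m.2
    rw [h] at this
    simp [Matrix.det_fin_two] at this
  have ha0 : a = 0 := (mul_eq_zero.1 ((smul_eq_zero.1 h3).resolve_right hm)).resolve_left h2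
  subst ha0
  have hd := w.2
  rw [hab, det_combo, n.2] at hd
  rcases mul_self_eq_one_iff.1 (show b * b = 1 by linear_combination hd) with hb | hb <;> subst hb
  · exact Or.inl (Subtype.ext (by rw [hab]; simp [combo]))
  · exact Or.inr (Subtype.ext (by rw [hab, coe_neg']; simp [combo]))

theorem eq_pm_one_of_comm {n m w : G2} (hnm : n * m = -(m * n)) (hc : w * n = n * w) (hc' : w * m = m * w) :
    w = 1 ∨ w = -1 := by
  refine scalar_pm fun hw => ?_
  have h1 := cent_comm hw n (Subgroup.mem_centralizer_singleton_iff.2 hc.symm) m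
    (Subgroup.mem_centralizer_singleton_iff.2 hc'.symm)
  exact neg_ne h2 (m * n) (hnm.symm.trans h1)

omit h2

/-- A quaternion frame. -/
structure Frame (F : Type*) [Field F] where
  i : SL(2, F)
  j : SL(2, F)
  anti : i * j = -(j * i)

/-- The axes of a frame. -/
def Frame.Ax (f : Frame F) (z : G2) : Prop := PM z f.i ∨ PM z f.j ∨ PM z (f.i * f.j)

/-- `g` permutes the axes. -/
def Frame.Norm (f : Frame F) (g : G2) : Prop := ∀ z, f.Ax z → f.Ax (g * z * g⁻¹)

theorem Frame.Norm.mul {f : Frame F} {g h : G2} (hg : f.Norm g) (hh : f.Norm h) : f.Norm (g * h) := fun z hz => by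
  rw [show g * h * z * (g * h)⁻¹ = g * (h * z * h⁻¹) * g⁻¹ by group]
  exact hg _ (hh z hz)

theorem Frame.Norm.inv [Finite F] {f : Frame F} {g : G2} (hg : f.Norm g) : f.Norm g⁻¹ := by
  have hpow : ∀ k : ℕ, f.Norm (g ^ k) := by
    intro k
    induction k with
    | zero => intro z hz; simpa using hz
    | succ k ih => rw [pow_succ]; exact ih.mul hg
  have h1 : g⁻¹ = g ^ (orderOf g - 1) := inv_eq_of_mul_eq_one_left (by
    rw [← pow_succ, Nat.sub_add_cancel (orderOf_pos g), pow_orderOf_eq_one])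
  rw [h1]; exact hpow _

include h2

theorem Frame.ca_i (f : Frame F) {z : G2} (hz : f.Ax z) : CA z f.i ∧ CA z f.j := by
  have hij : CA f.i f.j := Or.inr f.anti
  have key : ∀ w, (CA w f.i ∧ CA w f.j) → ∀ z, PM z w → CA z f.i ∧ CA z f.j := by
    rintro w ⟨h, h'⟩ z (rfl | rfl)
    · exact ⟨h, h'⟩
    · exact ⟨h.neg, h'.neg⟩
  rcases hz with hz | hz | hz
  · exact key _ ⟨CA.refl _, hij⟩ z hz
  · exact key _ ⟨hij.symm, CA.refl _⟩ z hz
  · exact key _ ⟨(CA.refl _).mul hij.symm, hij.mul (CA.refl _)⟩ z hz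

theorem Frame.classify (f : Frame F) {w : G2} (hi : CA w f.i) (hj : CA w f.j) :
    (w = 1 ∨ w = -1) ∨ f.Ax w := by
  have hji : f.j * f.i = -(f.i * f.j) := by rw [f.anti, neg_neg]
  rcases hi with hi | hi <;> rcases hj with hj | hj
  · exact Or.inl (eq_pm_one_of_comm h2 f.anti hi hj)
  · exact Or.inr (Or.inl (eq_self_or_neg h2 f.anti hi hj))
  · exact Or.inr (Or.inr (Or.inl (eq_self_or_neg h2 hji hj hi)))
  · refine Or.inr (Or.inr (Or.inr (eq_self_or_neg h2 (m := f.i) ?_ ?_ hi)))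
    · rw [mul_assoc, hji, mul_neg]
    · rw [← mul_assoc, hi, neg_mul, mul_assoc, hj, mul_neg, neg_neg, ← mul_assoc]

theorem Frame.ax_ne_pm_one (f : Frame F) {z : G2} (hz : f.Ax z) : ¬ (z = 1 ∨ z = -1) := by
  intro h
  have hji : f.j * f.i = -(f.i * f.j) := by rw [f.anti, neg_neg]
  have hns : NonScalar z.1 := by
    have key : ∀ w : G2, NonScalar w.1 → ∀ z, PM z w → NonScalar z.1 := by
      rintro w hw z (rfl | rfl)
      · exact hw
      · intro hc
        apply hw
        simpa [coe_neg'] using hc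
    rcases hz with hz | hz | hz
    · exact key _ (nonScalar_of_anti h2 f.anti) z hz
    · exact key _ (nonScalar_of_anti h2 hji) z hz
    · exact key _ (nonScalar_of_anti h2 (show f.i * f.j * f.i = -(f.i * (f.i * f.j)) by
        rw [mul_assoc, hji, mul_neg])) z hz
  exact not_nonScalar_pm h hns

theorem Frame.norm_of (f : Frame F) {g : G2} (hi : f.Ax (g * f.i * g⁻¹)) (hj : f.Ax (g * f.j * g⁻¹)) : f.Norm g := by
  have hl : f.Ax (g * (f.i * f.j) * g⁻¹) := by
    have he : g * (f.i * f.j) * g⁻¹ = (g * f.i * g⁻¹) * (g * f.j * g⁻¹) := by group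
    refine (f.classify h2 ?_ ?_).resolve_left fun h => ?_
    · rw [he]; exact (f.ca_i h2 hi).1.mul (f.ca_i h2 hj).1
    · rw [he]; exact (f.ca_i h2 hi).2.mul (f.ca_i h2 hj).2
    · refine f.ax_ne_pm_one h2 (z := f.i * f.j) (Or.inr (Or.inr (Or.inl rfl))) ?_
      rcases h with h | h
      · exact Or.inl (conj_eq_one_iff.1 h)
      · exact Or.inr (by
          have h1 := congrArg (fun w => g⁻¹ * w * g) h
          simpa [mul_assoc] using h1)
  intro z hz
  rcases hz with hz | hz | hz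
  · rcases (hz.conj g) with e | e <;> rw [e]
    · exact hi
    · rcases hi with h | h | h
      exacts [Or.inl ((show PM (-(g * f.i * g⁻¹)) (g * f.i * g⁻¹) from Or.inr rfl).trans h),
        Or.inr (Or.inl ((show PM (-(g * f.i * g⁻¹)) (g * f.i * g⁻¹) from Or.inr rfl).trans h)),
        Or.inr (Or.inr ((show PM (-(g * f.i * g⁻¹)) (g * f.i * g⁻¹) from Or.inr rfl).trans h))]
  · rcases hj with h | h | h
    exacts [Or.inl ((hz.conj g).trans h), Or.inr (Or.inl ((hz.conj g).trans h)),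
      Or.inr (Or.inr ((hz.conj g).trans h))]
  · rcases hl with h | h | h
    exacts [Or.inl ((hz.conj g).trans h), Or.inr (Or.inl ((hz.conj g).trans h)),
      Or.inr (Or.inr ((hz.conj g).trans h))]

/-- A matrix commuting with an anticommuting pair is scalar. -/
theorem scalar_of_comm {a b : G2} (hab : a * b = -(b * a)) {M : Matrix (Fin 2) (Fin 2) F}
    (h1 : M * a.1 = a.1 * M) (h3 : M * b.1 = b.1 * M) : ∃ c : F, M = c • (1 : Matrix (Fin 2) (Fin 2) F) := by
  obtain ⟨u, v, huv⟩ := exists_combo (nonScalar_of_anti h2 hab) h1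
  refine ⟨u, ?_⟩
  have e' : a.1 * b.1 = -(b.1 * a.1) := congrArg (fun z : G2 => z.1) hab
  rw [huv] at h3
  simp only [combo, add_mul, mul_add, smul_mul_assoc, mul_smul_comm, one_mul, mul_one, e', smul_neg] at h3
  have h4 : (2 * v) • (b.1 * a.1) = 0 := by
    rw [mul_smul, two_smul]
    linear_combination (norm := abel) -h3
  have hne : b.1 * a.1 ≠ 0 := fun h => by
    have := (b * a).2
    rw [coe_mul', h] at this
    simp [Matrix.det_fin_two] at this
  rw [huv, (mul_eq_zero.1 ((smul_eq_zero.1 h4).resolve_right hne)).resolve_left h2, combo, zero_smul, add_zero]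

theorem eq_zero_of_combo {g : G2} (hg : NonScalar g.1) {u v : F} (h : u • g.1 + v • (1 : Matrix (Fin 2) (Fin 2) F) = 0) :
    u = 0 ∧ v = 0 :=
  (combo_inj hg (a := v) (b := u) (a' := 0) (b' := 0) (by simp [combo, add_comm, h])).symm

/-- A matrix intertwining like `g` is a multiple of `g`. -/
theorem eq_smul_of_intertwine {a b a' b' g : G2} (hab : a * b = -(b * a)) (hga : g * a = a' * g) (hgb : g * b = b' * g)
    {P : Matrix (Fin 2) (Fin 2) F} (hPa : P * a.1 = a'.1 * P) (hPb : P * b.1 = b'.1 * P) :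
    ∃ c : F, P = c • g.1 := by
  have hga' : a * g⁻¹ = g⁻¹ * a' := by rw [eq_inv_mul_iff_mul_eq, ← mul_assoc, hga, mul_inv_cancel_right]
  have hgb' : b * g⁻¹ = g⁻¹ * b' := by rw [eq_inv_mul_iff_mul_eq, ← mul_assoc, hgb, mul_inv_cancel_right]
  have e1 : a.1 * (g⁻¹).1 = (g⁻¹).1 * a'.1 := congrArg (fun z : G2 => z.1) hga'
  have e2 : b.1 * (g⁻¹).1 = (g⁻¹).1 * b'.1 := congrArg (fun z : G2 => z.1) hgb'
  obtain ⟨c, hc⟩ := scalar_of_comm h2 hab (M := (g⁻¹).1 * P)
    (by rw [Matrix.mul_assoc, hPa, ← Matrix.mul_assoc, ← e1, Matrix.mul_assoc])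
    (by rw [Matrix.mul_assoc, hPb, ← Matrix.mul_assoc, ← e2, Matrix.mul_assoc])
  refine ⟨c, ?_⟩
  have := congrArg (fun M => g.1 * M) hc
  rw [← Matrix.mul_assoc, ← coe_mul', mul_inv_cancel, coe_one', Matrix.one_mul, Matrix.mul_smul, Matrix.mul_one] at this
  exact this

theorem anti_val {a b : G2} (hab : a * b = -(b * a)) :
    a.1 * a.1 = -1 ∧ b.1 * b.1 = -1 ∧ b.1 * a.1 = -(a.1 * b.1) := by
  have hba : b * a = -(a * b) := by rw [hab, neg_neg]
  exact ⟨congrArg (fun z : G2 => z.1) (sq_neg_one (trace_of_anti h2 hab)),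
    congrArg (fun z : G2 => z.1) (sq_neg_one (trace_of_anti h2 hba)), congrArg (fun z : G2 => z.1) hba⟩

/-- Nothing swaps two axes. -/
theorem no_swap (hns : ¬ IsSquare (2 : F)) {a b g : G2} (hab : a * b = -(b * a)) (h1 : g * a = b * g)
    (h3 : g * b = a * g ∨ g * b = -(a * g)) : False := by
  obtain ⟨haa, hbb, hba⟩ := anti_val h2 hab
  have hg : NonScalar g.1 := by
    by_contra hn
    have e : a = b := by
      rcases scalar_pm hn with e | e <;> rw [e] at h1 <;> simpa using h1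
    subst e
    exact neg_ne h2 (a * a) hab.symm
  rcases h3 with h3 | h3
  · obtain ⟨c, hc⟩ := eq_smul_of_intertwine h2 hab h1 h3 (P := a.1 + b.1)
      (by rw [Matrix.add_mul, Matrix.mul_add, haa, hbb, hba]; abel)
      (by rw [Matrix.add_mul, Matrix.mul_add, haa, hbb]; abel)
    have h : (a.1 + b.1) * (a.1 + b.1) = -(2 : F) • (1 : Matrix (Fin 2) (Fin 2) F) := by
      rw [Matrix.add_mul, Matrix.mul_add, Matrix.mul_add, haa, hbb, hba, neg_smul, two_smul]; abel
    rw [hc, Matrix.smul_mul, Matrix.mul_smul, smul_smul, sq_eq, smul_sub, smul_smul] at h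
    obtain ⟨-, hv⟩ := eq_zero_of_combo h2 hg (u := c * c * g.1.trace) (v := 2 - c * c) (by
      rw [sub_smul]
      linear_combination (norm := module) h)
    exact hns ⟨c, by linear_combination hv⟩
  · have h3' : g * b = -a * g := by rw [h3, neg_mul]
    obtain ⟨c, hc⟩ := eq_smul_of_intertwine h2 hab h1 h3' (P := 1 + a.1 * b.1)
      (by
        rw [Matrix.add_mul, Matrix.mul_add, Matrix.one_mul, Matrix.mul_one, Matrix.mul_assoc, hba, Matrix.mul_neg,
          ← Matrix.mul_assoc, haa, ← Matrix.mul_assoc, hba]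
        simp only [Matrix.neg_mul, Matrix.mul_neg, Matrix.mul_assoc, hbb, Matrix.one_mul, Matrix.mul_one, neg_neg]
        abel)
      (by
        rw [coe_neg', Matrix.add_mul, Matrix.mul_add, Matrix.one_mul, Matrix.mul_one, Matrix.mul_assoc, hbb,
          Matrix.mul_neg, Matrix.neg_mul, ← Matrix.mul_assoc, haa, Matrix.neg_mul, Matrix.one_mul, Matrix.mul_one]
        abel)
    have hsq : a.1 * b.1 * (a.1 * b.1) = -1 := by
      rw [Matrix.mul_assoc, ← Matrix.mul_assoc b.1, hba, Matrix.neg_mul, Matrix.mul_neg, Matrix.mul_assoc a.1 b.1,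
        hbb, Matrix.mul_neg, Matrix.mul_one, Matrix.mul_neg, haa, neg_neg]
    have h : (1 + a.1 * b.1) * ((2 : F) • (1 : Matrix (Fin 2) (Fin 2) F) - (1 + a.1 * b.1)) =
        (2 : F) • (1 : Matrix (Fin 2) (Fin 2) F) := by
      rw [two_smul, show (1 : Matrix (Fin 2) (Fin 2) F) + 1 - (1 + a.1 * b.1) = 1 - a.1 * b.1 by abel,
        Matrix.mul_sub, Matrix.mul_one, Matrix.add_mul, hsq, Matrix.one_mul]
      abel
    rw [hc, Matrix.mul_sub, Matrix.smul_mul, Matrix.smul_mul, Matrix.mul_smul, Matrix.mul_smul, Matrix.mul_one,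
      smul_smul, smul_smul, sq_eq, smul_sub, smul_smul] at h
    obtain ⟨-, hv⟩ := eq_zero_of_combo h2 hg (u := c * 2 - c * c * g.1.trace) (v := c * c - 2) (by
      rw [sub_smul, sub_smul]
      linear_combination (norm := module) h)
    exact hns ⟨c, by linear_combination -hv⟩

/-- A three-cycle of axes has trace `±2`. -/
theorem trace_of_cycle (h3 : (3 : F) = 0) {i j g : G2} (hij : i * j = -(j * i)) (hg1 : g * i = j * g)
    (hg2 : g * j = i * j * g ∨ g * j = -(i * j * g)) : g.1.trace ^ 2 = 4 := by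
  obtain ⟨hii, hjj, hji⟩ := anti_val h2 hij
  have hg : NonScalar g.1 := by
    by_contra hn
    have e : i = j := by
      rcases scalar_pm hn with e | e <;> rw [e] at hg1 <;> simpa using hg1
    subst e
    exact neg_ne h2 (i * i) hij.symm
  obtain ⟨ε, hε, hg2'⟩ : ∃ ε : F, ε * ε = 1 ∧ (g * j).1 = ε • (i * j * g).1 := by
    rcases hg2 with e | e
    · exact ⟨1, mul_one 1, by rw [e, one_smul]⟩
    · exact ⟨-1, by simp, by rw [e, coe_neg', neg_one_smul]⟩
  have hil : i.1 * (i.1 * j.1) = -j.1 := by rw [← Matrix.mul_assoc, hii, Matrix.neg_mul, Matrix.one_mul]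
  have hli : i.1 * j.1 * i.1 = j.1 := by rw [Matrix.mul_assoc, hji, Matrix.mul_neg, hil, neg_neg]
  have hlj : i.1 * j.1 * j.1 = -i.1 := by rw [Matrix.mul_assoc, hjj, Matrix.mul_neg, Matrix.mul_one]
  have hjl : j.1 * (i.1 * j.1) = i.1 := by
    rw [← Matrix.mul_assoc, hji, Matrix.neg_mul, Matrix.mul_assoc, hjj, Matrix.mul_neg, Matrix.mul_one, neg_neg]
  have hll : i.1 * j.1 * (i.1 * j.1) = -1 := by rw [Matrix.mul_assoc, hjl, hii]
  set P : Matrix (Fin 2) (Fin 2) F := 1 + i.1 * j.1 + ε • (i.1 + j.1) with hP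
  have hPi : P * i.1 = j.1 * P := by
    simp only [hP, Matrix.add_mul, Matrix.mul_add, Matrix.one_mul, Matrix.mul_one, Matrix.smul_mul, Matrix.mul_smul,
      hli, hjl, hii, hjj, hji, smul_add, smul_neg]
    abel
  have hPj : P * j.1 = ε • (i.1 * j.1 * P) := by
    simp only [hP, Matrix.add_mul, Matrix.mul_add, Matrix.one_mul, Matrix.mul_one, Matrix.smul_mul, Matrix.mul_smul,
      hlj, hjj, hli, hll, smul_add, smul_neg, smul_smul, hε, one_smul]
    abel
  obtain ⟨c, hc⟩ : ∃ c : F, P = c • g.1 := by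
    have e1 : i.1 * (g⁻¹).1 = (g⁻¹).1 * j.1 :=
      congrArg (fun z : G2 => z.1) (show i * g⁻¹ = g⁻¹ * j by
        rw [eq_inv_mul_iff_mul_eq, ← mul_assoc, hg1, mul_inv_cancel_right])
    have e2 : j.1 * (g⁻¹).1 = ε • ((g⁻¹).1 * (i.1 * j.1)) := by
      have h := congrArg (fun M => (g⁻¹).1 * M * (g⁻¹).1) hg2'
      simp only [Matrix.mul_smul, Matrix.smul_mul] at h
      rw [← coe_mul', ← coe_mul', ← coe_mul', ← coe_mul'] at h
      rw [show g⁻¹ * (g * j) * g⁻¹ = j * g⁻¹ by group, show g⁻¹ * (i * j * g) * g⁻¹ = g⁻¹ * (i * j) by group] at h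
      exact h
    obtain ⟨c, hc⟩ := scalar_of_comm h2 hij (M := (g⁻¹).1 * P)
      (by rw [Matrix.mul_assoc, hPi, ← Matrix.mul_assoc, ← e1, Matrix.mul_assoc])
      (by rw [Matrix.mul_assoc, hPj, Matrix.mul_smul, ← Matrix.mul_assoc, ← Matrix.smul_mul, ← e2, Matrix.mul_assoc])
    refine ⟨c, ?_⟩
    have := congrArg (fun M => g.1 * M) hc
    rw [← Matrix.mul_assoc, ← coe_mul', mul_inv_cancel, coe_one', Matrix.one_mul, Matrix.mul_smul, Matrix.mul_one] at this
    exact this
  have h : P * ((2 : F) • (1 : Matrix (Fin 2) (Fin 2) F) - P) = 1 := by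
    set N : Matrix (Fin 2) (Fin 2) F := i.1 * j.1 + ε • (i.1 + j.1) with hN
    have hNN : N * N = 0 := by
      simp only [hN, Matrix.add_mul, Matrix.mul_add, Matrix.smul_mul, Matrix.mul_smul, hii, hjj, hji, hli, hil, hlj,
        hjl, hll, smul_add, smul_neg, smul_smul, hε, one_smul]
      have h3' : (1 : Matrix (Fin 2) (Fin 2) F) + 1 + 1 = 0 := by
        have : (3 : F) • (1 : Matrix (Fin 2) (Fin 2) F) = 0 := by rw [h3, zero_smul]
        rw [show (3 : F) = 1 + 1 + 1 by ring, add_smul, add_smul, one_smul] at this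
        exact this
      linear_combination (norm := abel) -h3'
    rw [show P = 1 + N by rw [hP, hN]; abel, two_smul,
      show (1 : Matrix (Fin 2) (Fin 2) F) + 1 - (1 + N) = 1 - N by abel, Matrix.mul_sub, Matrix.mul_one, Matrix.add_mul,
      hNN, Matrix.one_mul, add_zero, add_sub_cancel_right]
  rw [hc, Matrix.mul_sub, Matrix.smul_mul, Matrix.smul_mul, Matrix.mul_smul, Matrix.mul_smul, Matrix.mul_one,
    smul_smul, smul_smul, sq_eq, smul_sub, smul_smul] at h
  obtain ⟨hu, hv⟩ := eq_zero_of_combo h2 hg (u := c * 2 - c * c * g.1.trace) (v := c * c - 1) (by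
    rw [sub_smul, sub_smul, one_smul]
    linear_combination (norm := module) h)
  have : g.1.trace = 2 * c := by linear_combination -hu - g.1.trace * hv
  rw [this]
  linear_combination 4 * hv

/-- An element fixing one axis fixes all. -/
theorem Frame.fix_case (hns : ¬ IsSquare (2 : F)) (f : Frame F) {g : G2} (hg : f.Norm g)
    (hi : PM (g * f.i * g⁻¹) f.i) : (g = 1 ∨ g = -1) ∨ f.Ax g := by
  have hgi : CA g f.i := hi.imp (fun e => mul_inv_eq_iff_eq_mul.1 e)
    fun e => by rw [mul_inv_eq_iff_eq_mul.1 e, neg_mul]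
  rcases hg f.j (Or.inr (Or.inl (Or.inl rfl))) with h | h | h
  · exfalso
    have e : PM f.j f.i := by
      have h1 := ((h.trans hi.symm).conj g⁻¹)
      simpa [mul_assoc] using h1
    rcases e with e | e
    · have := f.anti; rw [e] at this; exact neg_ne h2 (f.i * f.i) this.symm
    · have := f.anti; rw [e, mul_neg, neg_mul, neg_inj] at this
      exact neg_ne h2 (f.i * f.i) this.symm
  · exact f.classify h2 hgi (h.imp (fun e => mul_inv_eq_iff_eq_mul.1 e)
      fun e => by rw [mul_inv_eq_iff_eq_mul.1 e, neg_mul])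
  · exfalso
    have hl : PM (g * (f.i * f.j) * g⁻¹) f.j := by
      rw [show g * (f.i * f.j) * g⁻¹ = (g * f.i * g⁻¹) * (g * f.j * g⁻¹) by group]
      have hii := sq_neg_one (trace_of_anti h2 f.anti)
      rcases hi with e | e <;> rcases h with e' | e' <;> rw [e, e'] <;>
        simp [PM, ← mul_assoc, hii]
    obtain ⟨b, hb, hbe⟩ : ∃ b : G2, PM b (f.i * f.j) ∧ g * f.j * g⁻¹ = b := ⟨_, h, rfl⟩
    have hji : f.j * f.i = -(f.i * f.j) := by rw [f.anti, neg_neg]
    have hjl : f.j * b = -(b * f.j) := by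
      rcases hb with rfl | rfl <;> simp [← mul_assoc, hji]
    refine no_swap h2 hns hjl (mul_inv_eq_iff_eq_mul.1 hbe) ?_
    have : PM (g * b * g⁻¹) f.j := (hb.conj g).trans hl
    exact this.imp (fun e => mul_inv_eq_iff_eq_mul.1 e) fun e => by rw [mul_inv_eq_iff_eq_mul.1 e, neg_mul]

/-- The two kinds of elements permuting the axes. -/
theorem Frame.kind (hns : ¬ IsSquare (2 : F)) (h3 : (3 : F) = 0) (f : Frame F) {g : G2} (hg : f.Norm g) :
    ((g = 1 ∨ g = -1) ∨ f.Ax g) ∨ (g.1.trace ^ 2 = 4 ∧ ¬ PM (g * f.i * g⁻¹) f.i) := by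
  by_cases hi : PM (g * f.i * g⁻¹) f.i
  · exact Or.inl (f.fix_case h2 hns hg hi)
  refine Or.inr ⟨?_, hi⟩
  set b := g * f.i * g⁻¹ with hb
  have hbax : f.Ax b := hg f.i (Or.inl (Or.inl rfl))
  have hanti : f.i * b = -(b * f.i) := by
    refine ((f.ca_i h2 hbax).1.symm).resolve_left fun hc => ?_
    obtain ⟨k, hk, hk'⟩ : ∃ k : G2, (k = f.j ∨ k = f.i * f.j) ∧ PM b k := by
      rcases hbax.resolve_left hi with h | h
      · exact ⟨_, Or.inl rfl, h⟩
      · exact ⟨_, Or.inr rfl, h⟩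
    have hki : f.i * k = -(k * f.i) := by
      rcases hk with rfl | rfl
      · exact f.anti
      · rw [mul_assoc f.i f.j f.i, show f.j * f.i = -(f.i * f.j) by rw [f.anti, neg_neg], mul_neg, neg_neg]
    rcases hk' with e | e <;> rw [e] at hc
    · exact neg_ne h2 (k * f.i) (hki.symm.trans hc)
    · rw [mul_neg, neg_mul, neg_inj] at hc
      exact neg_ne h2 (k * f.i) (hki.symm.trans hc)
  let f' : Frame F := ⟨f.i, b, hanti⟩
  have hgb := hg b hbax
  have h1 : g * f.i = b * g := (mul_inv_eq_iff_eq_mul.1 (rfl : g * f.i * g⁻¹ = b))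
  have hcb : CA (g * b * g⁻¹) b := by
    have h := f.ca_i h2 hgb
    rcases hbax with hb' | hb' | hb'
    · rcases hb' with e | e <;> rw [show b = _ from e]
      · rw [e] at h; exact h.1
      · rw [e] at h; exact h.1.symm.neg.symm
    · rcases hb' with e | e <;> rw [show b = _ from e]
      · rw [e] at h; exact h.2
      · rw [e] at h; exact h.2.symm.neg.symm
    · have hc := (h.1.symm.mul h.2.symm).symm
      rcases hb' with e | e <;> rw [show b = _ from e]
      · rw [e] at hc; exact hc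
      · rw [e] at hc; exact hc.symm.neg.symm
  rcases f'.classify h2 (f.ca_i h2 hgb).1 hcb with h | h | h | h
  · exfalso
    refine f.ax_ne_pm_one h2 hbax ?_
    rcases h with h | h
    · exact Or.inl (conj_eq_one_iff.1 h)
    · exact Or.inr (by
        have h1 := congrArg (fun w => g⁻¹ * w * g) h
        simpa [mul_assoc] using h1)
  · exact absurd (show False from no_swap h2 hns hanti h1 (h.imp (fun e => mul_inv_eq_iff_eq_mul.1 e)
      fun e => by rw [mul_inv_eq_iff_eq_mul.1 e, neg_mul])) id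
  · exfalso
    have h4 : PM b f.i := by
      have h5 := (h.trans (show PM b (g * f.i * g⁻¹) from Or.inl rfl)).conj g⁻¹
      simpa [mul_assoc] using h5
    exact hi h4
  · exact trace_of_cycle h2 h3 hanti h1 (h.imp (fun e => mul_inv_eq_iff_eq_mul.1 e)
      fun e => by rw [mul_inv_eq_iff_eq_mul.1 e, neg_mul])

theorem Frame.trace_ax (f : Frame F) {z : G2} (hz : f.Ax z) : z.1.trace = 0 := by
  have hji : f.j * f.i = -(f.i * f.j) := by rw [f.anti, neg_neg]
  rcases hz with (rfl | rfl) | (rfl | rfl) | (rfl | rfl)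
  · exact trace_of_anti h2 f.anti
  · rw [trace_neg', trace_of_anti h2 f.anti, neg_zero]
  · exact trace_of_anti h2 hji
  · rw [trace_neg', trace_of_anti h2 hji, neg_zero]
  · exact trace_of_anti h2 (show f.i * f.j * f.i = -(f.i * (f.i * f.j)) by rw [mul_assoc, hji, mul_neg])
  · rw [trace_neg', trace_of_anti h2 (show f.i * f.j * f.i = -(f.i * (f.i * f.j)) by rw [mul_assoc, hji, mul_neg]),
      neg_zero]

theorem Frame.first_fix (f : Frame F) {g : G2} (hg : (g = 1 ∨ g = -1) ∨ f.Ax g) : PM (g * f.i * g⁻¹) f.i := by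
  rcases hg with (rfl | rfl) | h
  · exact Or.inl (by simp)
  · exact Or.inl (by simp)
  · exact (f.ca_i h2 h).1.imp (fun e => mul_inv_eq_iff_eq_mul.2 e) fun e => mul_inv_eq_iff_eq_mul.2 (by rw [e, neg_mul])

/-- A solvable pair in `PSL₂` normalises, in `SL₂`, a non-scalar element up to its centraliser, or a frame. -/
theorem cases_of_solvable {X Y : G2} (hX : NonScalar X.1)
    (h : Group.IsSolvable ↥(Subgroup.closure ({prj X, prj Y} : Set (Matrix.ProjectiveSpecialLinearGroup (Fin 2) F)))) :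
    (∃ n : G2, NonScalar n.1 ∧ Commute (X * n * X⁻¹) n ∧ Commute (Y * n * Y⁻¹) n) ∨
      ∃ f : Frame F, f.Norm X ∧ f.Norm Y := by
  have hx : prj X ≠ 1 := fun e => not_nonScalar_pm ((prj_eq_one_iff X).1 e) hX
  obtain ⟨A, hA, hcomm, hAx, hAy⟩ := exists_abelian_normal h hx
  have hns : ∀ {u : G2}, prj u ≠ 1 → NonScalar u.1 := fun {u} hu =>
    by_contra fun hc => hu ((prj_eq_one_iff u).2 (scalar_pm hc))
  have hca : ∀ u v : G2, prj u ∈ A → prj v ∈ A → CA u v := fun u v hu hv => CA.of_prj (hcomm _ hu _ hv)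
  have hconj : ∀ (g : G2) (u : G2), (∀ a ∈ A, prj g * a * (prj g)⁻¹ ∈ A) → prj u ∈ A → prj (g * u * g⁻¹) ∈ A :=
    fun g u hg hu => by rw [map_mul, map_mul, map_inv]; exact hg _ hu
  by_cases hall : ∀ u v : G2, prj u ∈ A → prj v ∈ A → u * v = v * u
  · obtain ⟨a, ha, ha1⟩ := (Subgroup.bot_or_exists_ne_one A).resolve_left hA
    obtain ⟨n, rfl⟩ := QuotientGroup.mk'_surjective _ a
    exact Or.inl ⟨n, hns ha1, hall _ _ (hconj X n hAx ha) ha, hall _ _ (hconj Y n hAy ha) ha⟩
  · push Not at hall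
    obtain ⟨u, v, hu, hv, huv⟩ := hall
    let f : Frame F := ⟨u, v, (hca u v hu hv).resolve_left huv⟩
    have hmem : ∀ w : G2, prj w ∈ A → prj w ≠ 1 → f.Ax w := fun w hw hw1 =>
      (f.classify h2 (hca w u hw hu) (hca w v hw hv)).resolve_left fun e => hw1 ((prj_eq_one_iff w).2 e)
    have hu1 : prj u ≠ 1 := fun e => not_nonScalar_pm ((prj_eq_one_iff u).1 e) (nonScalar_of_anti h2 f.anti)
    have hv1 : prj v ≠ 1 := fun e => not_nonScalar_pm ((prj_eq_one_iff v).1 e)
      (nonScalar_of_anti h2 (show v * u = -(u * v) by rw [f.anti, neg_neg]))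
    have key : ∀ g : G2, (∀ a ∈ A, prj g * a * (prj g)⁻¹ ∈ A) → f.Norm g := fun g hg => by
      have hne : ∀ w : G2, prj w ≠ 1 → prj (g * w * g⁻¹) ≠ 1 := fun w hw e => hw (by
        rw [map_mul, map_mul, map_inv] at e; exact conj_eq_one_iff.1 e)
      exact f.norm_of h2 (hmem _ (hconj g u hg hu) (hne u hu1)) (hmem _ (hconj g v hg hv) (hne v hv1))
    exact Or.inr ⟨f, key X hAx, key Y hAy⟩

end Char

end Cfsg.Lib.SolubThree
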